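import Cfsg.Agent.Lib.Ward.Dual
import Cfsg.Agent.Lib.Coprime.ThompsonFPF

/-!
# Ward's theorem: the group-theoretic reduction
-/

set_option autoImplicit false

namespace Cfsg.Agent.Lib.Ward

open Subgroup
open scoped commutatorElement
open Cfsg.Agent.Lib.Coprime (le_of_noncyclic le_normalizer_of_conj_mem conj_mem_of_le_normalizer
  coprime_of_le_right map_inf_centralizer exists_invariant_sylow le_normalizer_inf_centralizer
  commutator_lt_of_isPGroup hasNormalPComplement_of_isNilpotent normal_of_isNilpotent)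

universe u

section Basics

variable {Γ : Type u} [Group Γ] [Finite Γ] {p : ℕ} {A K : Subgroup Γ}

/-- A `p`-group acting without fixed points has order prime to that of the group acted upon. -/
theorem coprime_card_of_fixedPointFree (hp : p.Prime) (hA : IsPGroup p A)
    (hAK : A ≤ normalizer (K : Set Γ)) (hfpf : K ⊓ centralizer (A : Set Γ) = ⊥) :
    p.Coprime (Nat.card K) := by
  haveI := Fact.mk hp
  letI : MulAction A K := MulAction.compHom K (K.normalizerMonoidHom.comp (inclusion hAK))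
  have hsmul : ∀ (a : A) (x : K), ((a • x : K) : Γ) = (a : Γ) * x * (a : Γ)⁻¹ := fun a x => rfl
  have hfix : MulAction.fixedPoints A K = {1} := by
    ext x
    rw [Set.mem_singleton_iff, MulAction.mem_fixedPoints]
    refine ⟨fun h => Subtype.ext (mem_bot.mp (hfpf ▸ mem_inf.mpr ⟨x.2, ?_⟩)), fun h a => ?_⟩
    · rw [mem_centralizer_iff]
      intro a ha
      have h1 := congrArg Subtype.val (h ⟨a, ha⟩)
      rw [hsmul] at h1
      exact mul_inv_eq_iff_eq_mul.mp h1
    · subst h
      exact Subtype.ext (by rw [hsmul]; simp)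
  have h1 := hA.card_modEq_card_fixedPoints K
  rw [hfix, Nat.card_coe_set_eq, Set.ncard_singleton] at h1
  rw [hp.coprime_iff_not_dvd]
  intro hdvd
  exact hp.one_lt.ne' (Nat.dvd_one.mp ((Nat.ModEq.dvd_iff h1 dvd_rfl).mp hdvd))

/-- Under Ward's hypothesis the centralizer of a nontrivial element of `A` is nilpotent. -/
theorem isNilpotent_inf_centralizer (hp : p.Prime) (hAel : Cfsg.IsElementaryAbelian p A)
    (hcard : Nat.card A = p ^ 2) (hK : Group.IsSolvable K) (hAK : A ≤ normalizer (K : Set Γ))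
    (hfpf : K ⊓ centralizer (A : Set Γ) = ⊥) {e : Γ} (he : e ∈ A) (he1 : e ≠ 1) :
    Group.IsNilpotent (K ⊓ centralizer {e} : Subgroup Γ) := by
  obtain ⟨d, hd, hde⟩ := exists_notMem_zpowers hp hAel hcard e he
  set H := K ⊓ centralizer ({e} : Set Γ) with hH
  have hdH : d ∈ normalizer (H : Set Γ) := by
    refine le_normalizer_of_conj_mem (A := A) (L := H) (fun a ha x hx =>
      mem_inf.mpr ⟨conj_mem_of_le_normalizer hAK ha hx.1, mem_centralizer_singleton_iff.mpr ?_⟩) hd
    have h1 : Commute x e := mem_centralizer_singleton_iff.mp hx.2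
    have h2 : Commute a e := commute_of_mem hAel ha he
    exact (h2.mul_left h1).mul_left h2.inv_left
  let φ : MulAut H := H.normalizerMonoidHom ⟨d, hdH⟩
  have hφ : φ ^ p = 1 := by
    have h1 : (⟨d, hdH⟩ : normalizer (H : Set Γ)) ^ p = 1 := Subtype.ext (by simpa using hAel.2 d hd)
    rw [← map_pow, h1, map_one]
  refine Cfsg.Agent.Lib.Coprime.isNilpotent_of_fixedPointFree_of_isSolvable
    (Cfsg.Agent.Lib.Coprime.isSolvable_of_le inf_le_left hK) φ ?_ hp hφ
  intro x hx
  have h1 : d * (x : Γ) * d⁻¹ = x := congrArg Subtype.val hx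
  refine Subtype.ext (mem_bot.mp (hfpf ▸ mem_inf.mpr ⟨x.2.1, ?_⟩))
  rw [mem_centralizer_iff]
  intro a ha
  obtain ⟨i, j, rfl⟩ := exists_zpow_mul_zpow hp hAel hcard he he1 hd hde ha
  have he' : Commute e (x : Γ) := (mem_centralizer_singleton_iff.mp x.2.2).symm
  have hd' : Commute d (x : Γ) := mul_inv_eq_iff_eq_mul.mp h1
  exact (he'.zpow_left i).mul_left (hd'.zpow_left j)

/-- In a nilpotent group, elements of prime power order for different primes commute. -/
theorem commute_of_isNilpotent {H Q R : Subgroup Γ} (hH : Group.IsNilpotent H) {q s : ℕ}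
    [Fact q.Prime] [Fact s.Prime] (hqs : q ≠ s) (hQ : IsPGroup q Q) (hR : IsPGroup s R) {x y : Γ}
    (hx : x ∈ Q) (hxH : x ∈ H) (hy : y ∈ R) (hyH : y ∈ H) : Commute x y := by
  obtain ⟨P, hP⟩ := (hQ.comap_of_injective H.subtype H.subtype_injective).exists_le_sylow
  obtain ⟨S, hS⟩ := (hR.comap_of_injective H.subtype H.subtype_injective).exists_le_sylow
  haveI := normal_of_isNilpotent hH P
  haveI := normal_of_isNilpotent hH S
  have := (commute_of_normal_of_disjoint (P : Subgroup H) (S : Subgroup H) ‹_› ‹_›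
    (IsPGroup.disjoint_of_ne q s hqs _ _ P.2 S.2) ⟨x, hxH⟩ ⟨y, hyH⟩ (hP hx) (hS hy))
  exact congrArg Subtype.val this.eq

omit [Finite Γ] in
/-- A minimal normal subgroup inside a solvable normal subgroup is elementary abelian. -/
theorem exists_isElementaryAbelian_of_minimal [Finite Γ] {V : Subgroup Γ} [V.Normal] (hV1 : V ≠ ⊥)
    (hsolv : Group.IsSolvable V)
    (hmin : ∀ U : Subgroup Γ, U.Normal → U ≤ V → U ≠ ⊥ → U = V) :
    ∃ r, r.Prime ∧ Cfsg.IsElementaryAbelian r V := by
  haveI := hsolv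
  haveI : Nontrivial V := (Subgroup.nontrivial_iff_ne_bot V).mpr hV1
  have hcomm : ⁅V, V⁆ = ⊥ := by
    by_contra h
    have h2 := hmin _ (commutator_normal V V)
      (Cfsg.Agent.Lib.Coprime.commutator_le_of_le_normalizer le_normalizer) h
    have h3 : commutator V = ⊤ := by
      apply map_injective V.subtype_injective
      rw [map_subtype_commutator, h2, ← MonoidHom.range_eq_map, range_subtype]
    exact (Group.IsSolvable.commutator_lt_top_of_nontrivial (G := V)).ne h3
  have hab : ∀ x ∈ V, ∀ y ∈ V, Commute x y := fun x hx y hy =>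
    commutatorElement_eq_one_iff_commute.mp (mem_bot.mp (hcomm ▸ commutator_mem_commutator hx hy))
  obtain ⟨r, hr, hdvd⟩ := Nat.exists_prime_and_dvd (n := Nat.card V)
    (fun h => hV1 (eq_bot_of_card_eq V h))
  haveI := Fact.mk hr
  let U : Subgroup Γ :=
    { carrier := {x | x ∈ V ∧ x ^ r = 1}
      one_mem' := ⟨V.one_mem, one_pow r⟩
      mul_mem' := fun {a c} ha hc => ⟨V.mul_mem ha.1 hc.1, by
        rw [(hab a ha.1 c hc.1).mul_pow, ha.2, hc.2, one_mul]⟩
      inv_mem' := fun {a} ha => ⟨V.inv_mem ha.1, by rw [inv_pow, ha.2, inv_one]⟩ }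
  have hUn : U.Normal := ⟨fun x hx g => ⟨Normal.conj_mem inferInstance _ hx.1 g, by
    rw [conj_pow, hx.2]; group⟩⟩
  obtain ⟨v, hv⟩ := exists_prime_orderOf_dvd_card' r hdvd
  have hU1 : U ≠ ⊥ := by
    intro h
    have hmem : (v : Γ) ∈ U := ⟨v.2, by rw [← hv, ← Subgroup.coe_pow, pow_orderOf_eq_one]; rfl⟩
    rw [h, mem_bot] at hmem
    rw [show v = 1 from Subtype.ext hmem, orderOf_one] at hv
    exact hr.one_lt.ne hv
  have hUV : U = V := hmin U hUn (fun x hx => hx.1) hU1
  refine ⟨r, hr, ⟨⟨fun a c => Subtype.ext (hab a a.2 c c.2)⟩⟩, fun a ha => ?_⟩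
  exact (hUV ▸ ha : a ∈ U).2

end Basics

/-- A normal nilpotent `M ≤ K` with `⁅M, K⁆ = M` has trivial Sylow `q`-subgroup if the
centralizer of the latter has index a power of `q` in `K`. -/
theorem sylow_eq_bot_of_key {H : Type u} [Group H] [Finite H] {q : ℕ} [Fact q.Prime]
    {M K : Subgroup H} [M.Normal] (hMK : M ≤ K) (hn : Group.IsNilpotent M) (hM : ⁅M, K⁆ = M)
    (P : Sylow q M) [((P : Subgroup M).map M.subtype).Normal]
    (hidx : ∀ s : ℕ, s.Prime → s ≠ q →
      ¬ s ∣ (centralizer ((P : Subgroup M).map M.subtype : Set H)).relIndex K) :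
    (P : Subgroup M).map M.subtype = ⊥ := by
  set Q := (P : Subgroup M).map M.subtype with hQdef
  set C := centralizer (Q : Set H) with hC
  by_contra hQ1
  haveI : C.Normal := inferInstanceAs (centralizer (Q : Set H)).Normal
  obtain ⟨S⟩ := (inferInstance : Nonempty (Sylow q K))
  set PK := (S : Subgroup K).map K.subtype with hPKdef
  have hQK : Q ≤ K := (map_subtype_le _).trans hMK
  have hQp : IsPGroup q Q := P.2.map _
  -- `K` is covered by `C` and the Sylow subgroup
  have hKle : K ≤ C ⊔ PK := by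
    have h1 : ((C ⊔ PK).subgroupOf K).index = 1 := by
      by_contra h
      obtain ⟨s, hs, hdvd⟩ := Nat.exists_prime_and_dvd h
      have h2 : ((C ⊔ PK).subgroupOf K).index ∣ C.relIndex K :=
        relIndex_dvd_of_le_left K le_sup_left
      have h3 : ((C ⊔ PK).subgroupOf K).index ∣ (S : Subgroup K).index :=
        index_dvd_of_le fun x hx => mem_sup_right ⟨x, hx, rfl⟩
      rcases eq_or_ne s q with rfl | hsq
      · exact S.not_dvd_index (hdvd.trans h3)
      · exact hidx s hs hsq (hdvd.trans h2)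
    exact subgroupOf_eq_top.mp (index_eq_one.mp h1)
  have hQPK : Q ≤ PK := by
    intro x hx
    exact ⟨⟨x, hQK hx⟩, IsPGroup.le_sylow_of_normal (N := Q.subgroupOf K) hQp.comap_subtype S
      (mem_subgroupOf.mpr hx), rfl⟩
  -- `⁅Q, PK⁆ < Q`
  have hPKQ : PK ≤ normalizer (Q : Set H) := by rw [normalizer_eq_top]; exact le_top
  have hlt : ⁅Q, PK⁆ < Q := commutator_lt_of_isPGroup hQp (S.2.map _) hPKQ hQ1
  -- the normal complement of `Q` in `M`
  obtain ⟨P', N, hN, hcompl⟩ := hasNormalPComplement_of_isNilpotent hn (p := q)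
  haveI := normal_of_isNilpotent hn P
  haveI := hN
  letI := Sylow.unique_of_normal P inferInstance
  obtain rfl : P' = P := Subsingleton.elim _ _
  have hNcard : (Nat.card N).Coprime q := by
    rw [← hcompl.index_eq_card]
    exact ((Fact.out : q.Prime).coprime_iff_not_dvd.mpr P'.not_dvd_index).symm
  have hNmem : ∀ x : M, (orderOf x).Coprime q → x ∈ N := by
    intro x hx
    have h1 : orderOf (x : M ⧸ N) ∣ Nat.card P' := by
      rw [← hcompl.symm.index_eq_card]
      exact orderOf_dvd_natCard _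
    have h2 : orderOf (x : M ⧸ N) ∣ orderOf x := orderOf_map_dvd (QuotientGroup.mk' N) x
    obtain ⟨j, hj⟩ := IsPGroup.iff_card.mp P'.2
    rw [hj] at h1
    exact (QuotientGroup.eq_one_iff x).mp (orderOf_eq_one_iff.mp
      (Nat.eq_one_of_dvd_coprimes (hx.pow_right j) h2 h1))
  set N0 := N.map M.subtype with hN0
  haveI hN0n : N0.Normal := ⟨fun x hx g => by
    obtain ⟨x, hx', rfl⟩ := hx
    refine ⟨⟨g * x * g⁻¹, Normal.conj_mem inferInstance _ x.2 g⟩, hNmem _ ?_, rfl⟩
    have h1 : g * (x : H) * g⁻¹ = MulAut.conj g (x : H) := rfl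
    rw [← Subgroup.orderOf_coe]
    show (orderOf (g * (x : H) * g⁻¹)).Coprime q
    rw [h1, MulEquiv.orderOf_eq, Subgroup.orderOf_coe]
    exact hNcard.coprime_dvd_left (N.orderOf_dvd_natCard hx')⟩
  have hle : M ≤ ⁅Q, PK⁆ ⊔ N0 := by
    conv_lhs => rw [← hM]
    rw [commutator_le]
    intro m hm k hk
    obtain ⟨n, hnN, a, haP, hna⟩ : ∃ n ∈ N0, ∃ a ∈ Q, n * a = m := by
      obtain ⟨n, hn', a, ha, h⟩ := mem_sup_of_normal_left.mp
        (hcompl.sup_eq_top ▸ mem_top (⟨m, hm⟩ : M) : (⟨m, hm⟩ : M) ∈ N ⊔ (P' : Subgroup M))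
      exact ⟨n, ⟨n, hn', rfl⟩, a, ⟨a, ha, rfl⟩, congrArg Subtype.val h⟩
    obtain ⟨c, hc, π, hπ, rfl⟩ := mem_sup_of_normal_left.mp (hKle hk)
    subst hna
    have h1 : ⁅a, c * π⁆ = ⁅a, π⁆ := by
      have hca : c * a = a * c := (mem_centralizer_iff.mp hc a haP).symm
      have hcd : c * ⁅a, π⁆ = ⁅a, π⁆ * c := (mem_centralizer_iff.mp hc _
        (hlt.le (commutator_mem_commutator haP hπ))).symm
      calc ⁅a, c * π⁆ = (a * c) * π * a⁻¹ * π⁻¹ * c⁻¹ := by rw [commutatorElement_def]; group
        _ = c * ⁅a, π⁆ * c⁻¹ := by rw [← hca, commutatorElement_def]; group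
        _ = ⁅a, π⁆ := by rw [hcd, mul_inv_cancel_right]
    rw [commutatorElement_mul_left_eq_conj_mul, h1]
    refine mul_mem (mul_mem (mul_mem (mem_sup_right hnN)
      (mem_sup_left (commutator_mem_commutator haP hπ))) (inv_mem (mem_sup_right hnN))) ?_
    refine mem_sup_right ?_
    have h2 : ⁅n, c * π⁆ = n * (c * π * n⁻¹ * (c * π)⁻¹) := by rw [commutatorElement_def]; group
    rw [h2]
    exact mul_mem hnN (hN0n.conj_mem _ (inv_mem hnN) _)
  refine hlt.not_ge fun a ha => ?_
  obtain ⟨d, hd, n, hn', hdn⟩ := mem_sup_of_normal_right.mp (hle (map_subtype_le _ ha))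
  have hnQ : n ∈ Q := by
    rw [show n = d⁻¹ * a by rw [← hdn, inv_mul_cancel_left]]
    exact mul_mem (inv_mem (hlt.le hd)) ha
  obtain ⟨x, hx, rfl⟩ := hn'
  obtain ⟨y, hy, hxy⟩ := hnQ
  have : x = y := Subtype.ext hxy.symm
  subst this
  have hx1 : x = 1 := disjoint_def.mp hcompl.disjoint hx hy
  subst hx1
  rwa [← hdn, map_one, mul_one]

/-- Ward's theorem in internal form: a stationary term of the lower central series is nilpotent. -/
theorem isNilpotent_lowerCentralSeries {p : ℕ} (hp : p.Prime) :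
    ∀ n : ℕ, ∀ (Γ : Type u) [Group Γ] [Finite Γ], ∀ A K : Subgroup Γ, K.Normal →
      Nat.card K = n → Group.IsSolvable K → Cfsg.IsElementaryAbelian p A → Nat.card A = p ^ 2 →
      K ⊓ centralizer (A : Set Γ) = ⊥ →
      ∀ k, ⁅K.lowerCentralSeries k, K⁆ = K.lowerCentralSeries k →
        Group.IsNilpotent (K.lowerCentralSeries k) := by
  intro n
  induction n using Nat.strong_induction_on with
  | _ n IH =>
  intro Γ _ _ A K hKn hKcard hsolv hAel hcard hfpf k hk
  classical
  haveI := hKn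
  haveI := Fact.mk hp
  set M := K.lowerCentralSeries k with hMdef
  have hMK : M ≤ K := K.lowerCentralSeries_antitone (Nat.zero_le k)
  haveI hMn : M.Normal := by
    rw [hMdef]
    clear hk hMdef hMK M
    induction k with
    | zero => exact hKn
    | succ k ih =>
      haveI := ih
      rw [Subgroup.lowerCentralSeries_succ]
      exact commutator_normal _ _
  rcases eq_or_ne K ⊥ with hK1 | hK1
  · haveI : Subsingleton M := by
      rw [show M = ⊥ from le_bot_iff.mp (hK1 ▸ hMK)]
      infer_instance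
    infer_instance
  have hncyc := not_isCyclic_of_sq hp hAel hcard
  haveI : IsMulCommutative A := hAel.1
  have hAsolv : Group.IsSolvable A :=
    Group.isSolvable_of_comm fun a c => hAel.1.is_comm.comm a c
  have hAp : IsPGroup p A := IsPGroup.of_card hcard
  have hnorm : ∀ U : Subgroup Γ, U.Normal → A ≤ normalizer (U : Set Γ) := fun U hU => by
    haveI := hU
    rw [normalizer_eq_top]
    exact le_top
  have hAK := hnorm K hKn
  have hpK : p.Coprime (Nat.card K) := coprime_card_of_fixedPointFree hp hAp hAK hfpf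
  have hcopK : (Nat.card A).Coprime (Nat.card K) := hcard ▸ hpK.pow_left 2
  -- a minimal normal subgroup inside `K`
  obtain ⟨V, ⟨hVn, hV1, hVK⟩, hVmin⟩ := Set.Finite.exists_minimal
    (s := {U : Subgroup Γ | U.Normal ∧ U ≠ ⊥ ∧ U ≤ K}) (Set.toFinite _) ⟨K, hKn, hK1, le_rfl⟩
  haveI := hVn
  obtain ⟨r, hr, hVel⟩ := exists_isElementaryAbelian_of_minimal hV1
    (Cfsg.Agent.Lib.Coprime.isSolvable_of_le hVK hsolv)
    (fun U hU hUV hU1 => le_antisymm hUV (hVmin ⟨hU, hU1, hUV.trans hVK⟩ hUV))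
  haveI := Fact.mk hr
  have hVp : IsPGroup r V := fun x => ⟨1, Subtype.ext (by simpa using hVel.2 x x.2)⟩
  have hrp : p ≠ r := by
    rintro rfl
    obtain ⟨j, hj⟩ := IsPGroup.iff_card.mp hVp
    have hj0 : j ≠ 0 := fun h => hV1 (eq_bot_of_card_eq V (by rw [hj, h, pow_zero]))
    exact (hp.coprime_iff_not_dvd.mp hpK) ((dvd_pow_self p hj0).trans (hj ▸ card_dvd_of_le hVK))
  -- induction: the image of `M` modulo `V` is nilpotent
  set f := QuotientGroup.mk' V with hf
  have hfK : (f.ker ⊓ K : Subgroup Γ) ≤ K := inf_le_right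
  have hAinj : Function.Injective (f.subgroupMap A) := by
    refine (injective_iff_map_eq_one _).mpr fun a ha => Subtype.ext ?_
    have h1 : (a : Γ) ∈ V := (QuotientGroup.eq_one_iff _).mp (congrArg Subtype.val ha)
    have h2 := Nat.eq_one_of_dvd_coprimes (coprime_of_le_right hVK hcopK)
      (A.orderOf_dvd_natCard a.2) (V.orderOf_dvd_natCard h1)
    exact orderOf_eq_one_iff.mp h2
  have hM' : Group.IsNilpotent (M.map f) := by
    rw [hMdef, map_lowerCentralSeries]
    haveI : (K.map f).Normal := hKn.map f (QuotientGroup.mk'_surjective V)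
    refine IH (Nat.card (K.map f)) ?_ (Γ ⧸ V) (A.map f) (K.map f) inferInstance rfl ?_ ?_ ?_ ?_ k ?_
    · rw [← hKcard, ← relIndex_ker, QuotientGroup.ker_mk']
      have h1 := card_mul_index (V.subgroupOf K)
      rw [Nat.card_congr (subgroupOfEquivOfLe hVK).toEquiv] at h1
      refine lt_of_lt_of_le ?_ (le_of_eq h1)
      exact lt_mul_of_one_lt_left (Nat.pos_of_ne_zero index_ne_zero_of_finite)
        ((one_lt_card_iff_ne_bot V).mpr hV1)
    · haveI := hsolv
      exact Group.isSolvable_of_surjective (f.subgroupMap_surjective K)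
    · refine ⟨⟨⟨fun a c => ?_⟩⟩, ?_⟩
      · obtain ⟨_, x, hx, rfl⟩ := a
        obtain ⟨_, y, hy, rfl⟩ := c
        exact Subtype.ext (by rw [Subgroup.coe_mul, Subgroup.coe_mul, ← map_mul, ← map_mul,
          (commute_of_mem hAel hx hy).eq])
      · rintro _ ⟨a, ha, rfl⟩
        rw [← map_pow, hAel.2 a ha, map_one]
    · rw [← hcard]
      exact (Nat.card_congr (Equiv.ofBijective _ ⟨hAinj, f.subgroupMap_surjective A⟩)).symm
    · rw [← map_inf_centralizer f hAK (coprime_of_le_right hfK hcopK) (Or.inl hAsolv), hfpf, Subgroup.map_bot]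
    · rw [← map_lowerCentralSeries, ← map_commutator, hk]
  -- all Sylow subgroups of `M` are normal
  refine (Group.isNilpotent_of_finite_tfae (G := M)).out 3 0 |>.mp fun q hq => ?_
  haveI := hq
  obtain ⟨P, hPA⟩ := exists_invariant_sylow (p := q) (hnorm M hMn) (coprime_of_le_right hMK hcopK)
    (Or.inl hAsolv)
  suffices hPn : (P : Subgroup M).Normal by
    intro P'
    letI := Sylow.unique_of_normal P hPn
    rwa [Subsingleton.elim P' P]
  set Q := (P : Subgroup M).map M.subtype with hQdef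
  have hQM : Q ≤ M := map_subtype_le _
  have hQp : IsPGroup q Q := P.2.map _
  set QV := Q ⊔ V with hQV
  haveI hQVn : QV.Normal := by
    let P' : Sylow q (M.map f) := P.mapSurjective (f.subgroupMap_surjective M)
    haveI : (P' : Subgroup (M.map f)).Normal := normal_of_isNilpotent hM' P'
    haveI : (P' : Subgroup (M.map f)).Characteristic := P'.characteristic_of_normal inferInstance
    haveI : (M.map f).Normal := hMn.map f (QuotientGroup.mk'_surjective V)
    have h := ConjAct.normal_of_characteristic_of_normal (H := M.map f)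
      (K := (P' : Subgroup (M.map f)))
    have h2 : (P' : Subgroup (M.map f)).map (M.map f).subtype = Q.map f := by
      rw [hQdef, map_map, Sylow.coe_mapSurjective, map_map]
      rfl
    rw [h2] at h
    have h3 := h.comap f
    rwa [comap_map_eq, QuotientGroup.ker_mk'] at h3
  rcases eq_or_ne q r with rfl | hqr
  · have h1 : IsPGroup q (QV.subgroupOf M) :=
      (hQp.to_sup_of_normal_right hVp).comap_subtype
    have h2 : (P : Subgroup M) ≤ QV.subgroupOf M := fun x hx => mem_sup_left ⟨x, hx, rfl⟩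
    rw [← P.3 h1 h2]
    infer_instance
  -- `Q` centralizes `V`
  have hQV0 : Disjoint Q V := IsPGroup.disjoint_of_ne q r hqr _ _ hQp hVp
  suffices hQC : Q ≤ centralizer (V : Set Γ) by
    obtain ⟨j, hj⟩ := IsPGroup.iff_card.mp hVp
    refine ⟨fun x hx g => ?_⟩
    have h1 : ((g * x * g⁻¹ : M) : Γ) ∈ QV := by
      simpa using hQVn.conj_mem x (mem_sup_left ⟨x, hx, rfl⟩) g
    obtain ⟨a, ha, v, hv, hav⟩ := mem_sup_of_normal_right.mp h1
    obtain ⟨i, hi⟩ := P.2 ⟨x, hx⟩
    have hi' : (x : Γ) ^ q ^ i = 1 := congrArg (fun z : P.1 => ((z : M) : Γ)) hi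
    obtain ⟨i', hi''⟩ := hQp ⟨a, ha⟩
    have hi3 : a ^ q ^ i' = 1 := congrArg Subtype.val hi''
    have hpow : ((g * x * g⁻¹ : M) : Γ) ^ q ^ (i + i') = 1 := by
      rw [Subgroup.coe_mul, Subgroup.coe_mul, Subgroup.coe_inv, conj_pow, pow_add, pow_mul, hi',
        one_pow]
      group
    rw [← hav, (show Commute a v from (mem_centralizer_iff.mp (hQC ha) v hv).symm).mul_pow] at hpow
    have ha' : a ^ q ^ (i + i') = 1 := by rw [pow_add, mul_comm, pow_mul, hi3, one_pow]
    rw [ha', one_mul] at hpow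
    have hv1 : v = 1 := by
      refine mem_bot.mp (disjoint_iff.mp hQV0 ▸ ⟨?_, hv⟩)
      have h4 : orderOf v = 1 := by
        refine Nat.eq_one_of_dvd_coprimes ?_ (orderOf_dvd_of_pow_eq_one hpow)
          (V.orderOf_dvd_natCard hv)
        rw [hj]
        exact ((Nat.coprime_primes hq.out hr).mpr hqr).pow _ _
      rw [orderOf_eq_one_iff.mp h4]
      exact Q.one_mem
    rw [hv1, mul_one] at hav
    obtain ⟨a', ha'', rfl⟩ := ha
    rwa [← Subtype.ext (a1 := a') hav]
  by_contra hQC
  have hQK : Q ≤ K := hQM.trans hMK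
  have hAQ : A ≤ normalizer (Q : Set Γ) := hPA
  have hQA : Q ⊓ centralizer (A : Set Γ) = ⊥ := le_bot_iff.mp (hfpf ▸ inf_le_inf_right _ hQK)
  have hVA : V ⊓ centralizer (A : Set Γ) = ⊥ := le_bot_iff.mp (hfpf ▸ inf_le_inf_right _ hVK)
  have hQr : r.Coprime (Nat.card Q) := by
    obtain ⟨j, hj⟩ := IsPGroup.iff_card.mp hQp
    rw [hj]
    exact ((Nat.coprime_primes hr hq.out).mpr hqr.symm).pow_right j
  -- Frattini argument
  set NK := normalizer (Q : Set Γ) ⊓ K with hNK
  have hKNV : K ≤ NK ⊔ V := by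
    have hnd : ¬ q ∣ (Q.subgroupOf QV).index := by
      have h1 : (Q.subgroupOf QV).index ∣ Nat.card V := by
        have hle : QV ≤ normalizer (V : Set Γ) := by rw [normalizer_eq_top]; exact le_top
        let Q' := Q.subgroupOf QV
        have e1 := card_mul_index Q'
        rw [Nat.card_congr (subgroupOfEquivOfLe (le_sup_left : Q ≤ QV)).toEquiv] at e1
        have e2 := card_mul_index (V.subgroupOf QV)
        rw [Nat.card_congr (subgroupOfEquivOfLe (le_sup_right : V ≤ QV)).toEquiv] at e2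
        have e3 : (V.subgroupOf QV).index = Nat.card Q := by
          change V.relIndex (Q ⊔ V) = _
          rw [relIndex_sup_right, ← inf_relIndex_right, inf_comm, disjoint_iff.mp hQV0,
            relIndex_bot_left]
        rw [e3, mul_comm] at e2
        exact dvd_of_eq (Nat.eq_of_mul_eq_mul_left Nat.card_pos (e1.trans e2.symm))
      obtain ⟨j, hj⟩ := IsPGroup.iff_card.mp hVp
      intro h
      exact hqr ((Nat.prime_dvd_prime_iff_eq hq.out hr).mp
        (hq.out.dvd_of_dvd_pow (hj ▸ h.trans h1)))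
    let PQ : Sylow q QV := IsPGroup.toSylow (P := Q.subgroupOf QV) hQp.comap_subtype hnd
    have htop := PQ.normalizer_sup_eq_top
    have hmap : (PQ : Subgroup QV).map QV.subtype = Q := map_subgroupOf_eq_of_le le_sup_left
    rw [hmap] at htop
    intro g hg
    have h2 : g ∈ normalizer (Q : Set Γ) ⊔ V := by
      refine (?_ : (normalizer (Q : Set Γ)) ⊔ QV ≤ normalizer (Q : Set Γ) ⊔ V) (htop ▸ mem_top g)
      exact sup_le le_sup_left (sup_le (le_normalizer.trans le_sup_left) le_sup_right)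
    obtain ⟨a, ha, v, hv, rfl⟩ := mem_sup_of_normal_right.mp h2
    refine mul_mem_sup ⟨ha, ?_⟩ hv
    have h3 := K.mul_mem hg (K.inv_mem (hVK hv))
    rwa [mul_inv_cancel_right] at h3
  -- pass to the quotient by `W0 = C_{QV}(V)`
  set W0 := QV ⊓ centralizer (V : Set Γ) with hW0
  haveI : W0.Normal := inferInstance
  have hVab : V ≤ centralizer (V : Set Γ) := fun v hv => mem_centralizer_iff.mpr fun w hw =>
    congrArg Subtype.val (hVel.1.is_comm.comm ⟨w, hw⟩ ⟨v, hv⟩)
  have hVW0 : V ≤ W0 := le_inf le_sup_right hVab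
  set g := QuotientGroup.mk' W0 with hg
  have hgV : ∀ v ∈ V, g v = 1 := fun v hv => (QuotientGroup.eq_one_iff v).mpr (hVW0 hv)
  have hMg : Group.IsNilpotent (M.map g) := by
    haveI := hM'
    let h : Γ ⧸ V →* Γ ⧸ W0 := QuotientGroup.map V W0 (MonoidHom.id Γ) hVW0
    have h1 : (M.map f).map h = M.map g := by
      rw [map_map]
      congr 1
    rw [← h1]
    exact Group.nilpotent_of_surjective (h.subgroupMap (M.map f)) (h.subgroupMap_surjective _)
  haveI : (M.map g).Normal := hMn.map g (QuotientGroup.mk'_surjective W0)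
  let P'' : Sylow q (M.map g) := P.mapSurjective (g.subgroupMap_surjective M)
  have hP'' : (P'' : Subgroup (M.map g)).map (M.map g).subtype = Q.map g := by
    rw [hQdef, map_map, Sylow.coe_mapSurjective, map_map]
    rfl
  haveI : ((P'' : Subgroup (M.map g)).map (M.map g).subtype).Normal := by
    rw [hP'']
    have h1 : QV.map g = Q.map g := by
      rw [hQV, Subgroup.map_sup]
      refine sup_eq_left.mpr ?_
      rintro _ ⟨v, hv, rfl⟩
      rw [hgV v hv]
      exact one_mem _
    exact h1 ▸ hQVn.map g (QuotientGroup.mk'_surjective W0)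
  have hbot := sylow_eq_bot_of_key (K := K.map g) (map_mono hMK) hMg
    (by rw [← map_commutator, hk]) P'' ?_
  · rw [hP'', Subgroup.map_eq_bot_iff, QuotientGroup.ker_mk'] at hbot
    exact hQC (hbot.trans inf_le_right)
  -- the centralizer of the image of `Q` has `q`-power index
  intro s hs hsq
  haveI := Fact.mk hs
  rw [hP'']
  set C := (centralizer (Q.map g : Set (Γ ⧸ W0))).comap g with hC
  have hKg : K.map g = NK.map g := by
    refine le_antisymm ?_ (map_mono inf_le_right)
    rintro _ ⟨x, hx, rfl⟩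
    obtain ⟨a, ha, v, hv, rfl⟩ := mem_sup_of_normal_right.mp (hKNV hx)
    exact ⟨a, ha, by rw [map_mul, hgV v hv, mul_one]⟩
  rw [hKg, ← relIndex_comap]
  have hANK : A ≤ normalizer (NK : Set Γ) := le_normalizer_of_conj_mem fun a ha x hx =>
    mem_inf.mpr ⟨mul_mem (mul_mem (hAQ ha) hx.1) (inv_mem (hAQ ha)),
      conj_mem_of_le_normalizer hAK ha hx.2⟩
  obtain ⟨S, hSA⟩ := exists_invariant_sylow (p := s) hANK (coprime_of_le_right inf_le_right hcopK)
    (Or.inl hAsolv)
  set SS := (S : Subgroup NK).map NK.subtype with hSS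
  have hSSK : SS ≤ K := (map_subtype_le _).trans inf_le_right
  suffices hSC : SS ≤ C by
    intro h
    exact S.not_dvd_index (h.trans (index_dvd_of_le fun x hx => hSC ⟨x, hx, rfl⟩))
  refine le_of_noncyclic hncyc hSA (coprime_of_le_right hSSK hcopK) ?_
  intro b hb hb1 x hx
  set R := SS ⊓ centralizer ({b} : Set Γ) with hR
  have hRK : R ≤ K := inf_le_left.trans hSSK
  have hRp : IsPGroup s R := (S.2.map _).to_le inf_le_left
  have hnil := fun e (he : e ∈ A) (he1 : e ≠ 1) =>
    isNilpotent_inf_centralizer hp hAel hcard hsolv hAK hfpf he he1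
  have hAR : A ≤ normalizer (R : Set Γ) := by
    refine le_normalizer_of_conj_mem fun a ha y hy =>
      mem_inf.mpr ⟨conj_mem_of_le_normalizer hSA ha hy.1, ?_⟩
    refine mem_centralizer_singleton_iff.mpr ?_
    have h2 : Commute a b := commute_of_mem hAel ha hb
    exact (h2.mul_left (mem_centralizer_singleton_iff.mp hy.2)).mul_left h2.inv_left
  have hRQ : R ≤ normalizer (Q : Set Γ) :=
    inf_le_left.trans ((map_subtype_le _).trans inf_le_left)
  have hRfpf : ∀ e ∈ A, e ∉ zpowers b → ∀ y ∈ R, Commute y e → y = 1 := by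
    intro e he heb y hy hye
    refine mem_bot.mp (hfpf ▸ mem_inf.mpr ⟨hRK hy, ?_⟩)
    rw [mem_centralizer_iff]
    intro a ha
    obtain ⟨i, j, rfl⟩ := exists_zpow_mul_zpow hp hAel hcard hb hb1 he heb ha
    have hyb : Commute y b := mem_centralizer_singleton_iff.mp hy.2
    exact ((hyb.symm.zpow_left i).mul_left (hye.symm.zpow_left j)).eq
  have hcore := conj_mul_inv_mem_centralizer (p := p) hp hr hrp (A := A) (Q := Q) (R := R) hVel hAel
    hcard hVA hQp.isNilpotent (coprime_of_le_right hQK hcopK) hQr hAQ hRQ hQA hAR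
    (hpK.coprime_dvd_right (card_dvd_of_le hRK)) hb hb1
    (fun y hy => mem_centralizer_singleton_iff.mp hy.2) hRfpf
    (fun a ha hab y hy => commute_of_isNilpotent (hnil b hb hb1) hsq.symm hQp hRp ha
      ⟨hQK ha, mem_centralizer_singleton_iff.mpr hab⟩ hy ⟨hRK hy, hy.2⟩)
    (fun e he he1 a ha hae v hv hve => commute_of_isNilpotent (hnil e he he1) hqr hQp hVp ha
      ⟨hQK ha, mem_centralizer_singleton_iff.mpr hae⟩ hv
      ⟨hVK hv, mem_centralizer_singleton_iff.mpr hve⟩)
  rw [hC, mem_comap, mem_centralizer_iff]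
  rintro _ ⟨a, ha, rfl⟩
  have h1 : g (x * a * x⁻¹ * a⁻¹) = 1 := by
    refine (QuotientGroup.eq_one_iff _).mpr ⟨mem_sup_left ?_, hcore a ha x hx⟩
    exact mul_mem (conj_mem_of_le_normalizer hRQ hx ha) (inv_mem ha)
  rw [map_mul, map_mul, map_mul, map_inv, map_inv, mul_inv_eq_one, mul_inv_eq_iff_eq_mul] at h1
  exact h1.symm

end Cfsg.Agent.Lib.Ward
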