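import Cfsg.Agent.Lib.Ward.Linear

/-!
# The core of Ward's theorem for an elementary abelian normal subgroup
-/

set_option autoImplicit false

namespace Cfsg.Agent.Lib.Ward

open Subgroup
open scoped IsMulCommutative
open Cfsg.Agent.Lib.Coprime (conjEnd conjEnd_coe norm_mem_centralizer)

variable {Γ : Type*} [Group Γ] (V : Subgroup Γ) (L : Type*) [Field L]

/-- The `L`-valued additive functions on `V`. -/
def dualSpace : Submodule L (V → L) where
  carrier := {f | ∀ v w : V, f (v * w) = f v + f w}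
  add_mem' {f g} hf hg v w := by simp only [Pi.add_apply, hf v w, hg v w]; abel
  zero_mem' v w := by simp
  smul_mem' c {f} hf v w := by simp only [Pi.smul_apply, hf v w, smul_eq_mul, mul_add]

variable [V.Normal]

/-- `Γ` acts on the additive functions on a normal subgroup. -/
def dualRep : Γ →* Module.End L (dualSpace V L) where
  toFun g :=
    { toFun := fun f => ⟨fun v => f.1 ⟨g⁻¹ * v * g, Normal.conj_mem' inferInstance _ v.2 g⟩,
        fun v w => by
          rw [← f.2]
          exact congrArg f.1 (Subtype.ext (by simp only [Subgroup.coe_mul]; group))⟩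
      map_add' := fun f h => rfl
      map_smul' := fun c f => rfl }
  map_one' := by
    refine LinearMap.ext fun f => Subtype.ext (funext fun v => ?_)
    exact congrArg f.1 (Subtype.ext (by simp))
  map_mul' g h := by
    refine LinearMap.ext fun f => Subtype.ext (funext fun v => ?_)
    exact congrArg f.1 (Subtype.ext (by simp only; group))

theorem dualRep_apply (g : Γ) (f : dualSpace V L) (v : V) :
    (dualRep V L g f).1 v = f.1 ⟨g⁻¹ * v * g, Normal.conj_mem' inferInstance _ v.2 g⟩ := rfl

variable {V L}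

/-- An additive function as a homomorphism. -/
def dualHom (f : dualSpace V L) : V →* Multiplicative L :=
  MonoidHom.mk' (fun v => Multiplicative.ofAdd (f.1 v)) fun v w => by rw [f.2 v w, ofAdd_add]

theorem apply_norm [Finite Γ] [IsMulCommutative V] {B : Subgroup Γ}
    (hB : B ≤ normalizer (V : Set Γ)) {f : dualSpace V L}
    (hf : ∀ a ∈ B, dualRep V L a f = f) (v : V) :
    f.1 (Cfsg.Agent.Lib.Coprime.norm hB v) = (Nat.card B : L) * f.1 v := by
  letI := Fintype.ofFinite B
  have h : dualHom f (Cfsg.Agent.Lib.Coprime.norm hB v) = ∏ a : B, dualHom f (conjEnd hB a v) := by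
    simp only [Cfsg.Agent.Lib.Coprime.norm, MonoidHom.finsetProd_apply, map_prod]
  have h' : ∀ a : B, f.1 (conjEnd hB a v) = f.1 v := by
    intro a
    have h1 := congrArg (fun k => k.1 v) (hf _ (B.inv_mem a.2))
    simp only [dualRep_apply] at h1
    refine Eq.trans (congrArg f.1 (Subtype.ext ?_)) h1
    simp
  have h2 := congrArg Multiplicative.toAdd h
  simp only [dualHom, MonoidHom.mk'_apply, toAdd_prod, toAdd_ofAdd, h', Finset.sum_const,
    Finset.card_univ, nsmul_eq_mul] at h2
  rw [h2, Nat.card_eq_fintype_card]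

/-- Separation of points in a `ZMod r`-space, in multiplicative notation. -/
theorem exists_functional {M : Type*} [CommGroup M] {r : ℕ} [Fact r.Prime]
    [Module (ZMod r) (Additive M)] {v : M} (hv : v ≠ 1) :
    ∃ φ : Additive M →+ ZMod r, φ (Additive.ofMul v) ≠ 0 := by
  obtain ⟨φ, hφ⟩ : ∃ φ : Module.Dual (ZMod r) (Additive M), φ (Additive.ofMul v) ≠ 0 := by
    by_contra! h
    exact hv ((Module.forall_dual_apply_eq_zero_iff (ZMod r) (Additive.ofMul v)).mp h)
  exact ⟨φ.toAddMonoidHom, hφ⟩

omit [V.Normal] in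
/-- The additive functions separate the points of an elementary abelian group. -/
theorem exists_apply_ne_zero {r : ℕ} [Fact r.Prime] [CharP L r]
    (hV : Cfsg.IsElementaryAbelian r V) {v : V} (hv : v ≠ 1) : ∃ f : dualSpace V L, f.1 v ≠ 0 := by
  haveI := hV.1
  have hr : ∀ x : Additive V, r • x = 0 := fun x => by
    apply Additive.toMul.injective
    rw [toMul_nsmul, toMul_zero]
    exact Subtype.ext (by simpa using hV.2 (Additive.toMul x : V) (Additive.toMul x).2)
  obtain ⟨φ, hφ⟩ := @exists_functional V _ r _ (AddCommGroup.zmodModule hr) v hv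
  refine ⟨⟨fun w => ZMod.castHom (dvd_refl r) L (φ (Additive.ofMul w)), fun a b => by
    simp only [ofMul_mul, map_add]⟩, ?_⟩
  intro h
  exact hφ ((ZMod.castHom (dvd_refl r) L).injective (h.trans (map_zero _).symm))

/-- The core of Ward's theorem: `⁅Q, R⁆` centralizes `V`. -/
theorem conj_mul_inv_mem_centralizer [Finite Γ] {p r : ℕ} (hp : p.Prime) (hr : r.Prime)
    (hpr : p ≠ r) {A Q R V : Subgroup Γ} [V.Normal] (hV : Cfsg.IsElementaryAbelian r V)
    (hAel : Cfsg.IsElementaryAbelian p A) (hcard : Nat.card A = p ^ 2)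
    (hVA : V ⊓ centralizer (A : Set Γ) = ⊥)
    (hQn : Group.IsNilpotent Q) (hQcop : (Nat.card A).Coprime (Nat.card Q))
    (hQr : r.Coprime (Nat.card Q)) (hAQ : A ≤ normalizer (Q : Set Γ))
    (hRQ : R ≤ normalizer (Q : Set Γ)) (hQA : Q ⊓ centralizer (A : Set Γ) = ⊥)
    (hAR : A ≤ normalizer (R : Set Γ)) (hRcop : p.Coprime (Nat.card R))
    {b : Γ} (hb : b ∈ A) (hb1 : b ≠ 1) (hbR : ∀ x ∈ R, Commute x b)
    (hRfpf : ∀ e ∈ A, e ∉ zpowers b → ∀ x ∈ R, Commute x e → x = 1)
    (hbQ : ∀ q ∈ Q, Commute q b → ∀ x ∈ R, Commute q x)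
    (hfix : ∀ e ∈ A, e ≠ 1 → ∀ q ∈ Q, Commute q e → ∀ v ∈ V, Commute v e → Commute q v) :
    ∀ q ∈ Q, ∀ x ∈ R, x * q * x⁻¹ * q⁻¹ ∈ centralizer (V : Set Γ) := by
  haveI := Fact.mk hr
  haveI := Fact.mk hp
  haveI := hV.1
  let L := AlgebraicClosure (ZMod r)
  haveI : CharP L r := charP_of_injective_algebraMap (algebraMap (ZMod r) L).injective r
  have hnd : ∀ n : ℕ, r.Coprime n → (n : L) ≠ 0 := by
    intro n hn h
    exact (hr.coprime_iff_not_dvd.mp hn) ((CharP.cast_eq_zero_iff L r n).mp h)
  have hpL : (p : L) ≠ 0 := hnd p ((Nat.coprime_primes hr hp).mpr hpr.symm)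
  have hWA : ∀ f : dualSpace V L, (∀ a ∈ A, dualRep V L a f = f) → f = 0 := by
    intro f hf
    refine Subtype.ext (funext fun v => ?_)
    have hnorm : A ≤ normalizer (V : Set Γ) := by rw [normalizer_eq_top]; exact le_top
    have h1 := apply_norm hnorm hf v
    have h2 : Cfsg.Agent.Lib.Coprime.norm hnorm v = 1 := by
      refine Subtype.ext (mem_bot.mp ?_)
      rw [← hVA]
      exact ⟨(Cfsg.Agent.Lib.Coprime.norm hnorm v).2, norm_mem_centralizer hnorm v⟩
    rw [h2, hcard, Nat.cast_pow] at h1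
    have h0 : f.1 1 = 0 := by
      have h := f.2 1 1
      rw [mul_one] at h
      exact left_eq_add.mp h
    rw [h0] at h1
    exact (mul_eq_zero.mp h1.symm).resolve_left (pow_ne_zero 2 hpL)
  have hfix' : ∀ e ∈ A, e ≠ 1 → ∀ q ∈ Q, Commute q e → ∀ f : dualSpace V L,
      dualRep V L e f = f → dualRep V L q f = f := by
    intro e he he1 q hq hqe f hf
    refine Subtype.ext (funext fun v => ?_)
    have hnorm : zpowers e ≤ normalizer (V : Set Γ) := by rw [normalizer_eq_top]; exact le_top
    have hf' : ∀ a ∈ zpowers e, dualRep V L a f = f := by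
      have hle : zpowers e ≤
          { carrier := {a | dualRep V L a f = f}
            one_mem' := by simp
            mul_mem' := fun {a c} ha hc => by
              show dualRep V L (a * c) f = f
              rw [map_mul, Module.End.mul_apply, hc, ha]
            inv_mem' := fun {a} ha => by
              show dualRep V L a⁻¹ f = f
              conv_lhs => rw [← ha]
              rw [apply_inv_apply] : Subgroup Γ } := zpowers_le.mpr hf
      exact fun a ha => hle ha
    have hcard' : Nat.card (zpowers e) = p := by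
      rw [Nat.card_zpowers, orderOf_eq_prime (hAel.2 e he) he1]
    refine mul_left_cancel₀ hpL ?_
    rw [dualRep_apply, ← hcard', ← apply_norm hnorm hf', ← apply_norm hnorm hf']
    refine congrArg f.1 ?_
    set N := Cfsg.Agent.Lib.Coprime.norm hnorm v with hN
    have hNe : Commute (N : Γ) e :=
      (mem_centralizer_iff.mp (norm_mem_centralizer hnorm v) e (mem_zpowers e)).symm
    letI := Fintype.ofFinite (zpowers e)
    have hmove : Cfsg.Agent.Lib.Coprime.norm hnorm
        ⟨q⁻¹ * (v : Γ) * q, Normal.conj_mem' inferInstance _ v.2 q⟩ =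
        (⟨q⁻¹ * (N : Γ) * q, Normal.conj_mem' inferInstance _ N.2 q⟩ : V) := by
      let c : V →* V := MonoidHom.mk'
        (fun x => ⟨q⁻¹ * (x : Γ) * q, Normal.conj_mem' inferInstance _ x.2 q⟩)
        (fun a b => Subtype.ext (by simp only [Subgroup.coe_mul]; group))
      show Cfsg.Agent.Lib.Coprime.norm hnorm (c v) = c N
      simp only [hN, Cfsg.Agent.Lib.Coprime.norm, MonoidHom.finsetProd_apply, map_prod]
      refine Finset.prod_congr rfl fun a _ => Subtype.ext ?_
      obtain ⟨i, hi⟩ := mem_zpowers_iff.mp a.2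
      have hc : Commute q (a : Γ) := hi ▸ hqe.zpow_right i
      simp only [c, conjEnd_coe, MonoidHom.mk'_apply]
      calc (a : Γ) * (q⁻¹ * (v : Γ) * q) * (a : Γ)⁻¹
          = (a * q⁻¹) * v * (q * (a : Γ)⁻¹) := by group
        _ = (q⁻¹ * a) * v * ((a : Γ)⁻¹ * q) := by rw [hc.inv_left.eq, hc.inv_right.eq]
        _ = q⁻¹ * ((a : Γ) * v * (a : Γ)⁻¹) * q := by group
    rw [hmove]
    refine Subtype.ext ?_
    simp only
    rw [mul_assoc, ← (hfix e he he1 q hq hqe _ N.2 hNe).eq, inv_mul_cancel_left]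
  intro q hq x hx
  have key := apply_conj_eq (dualRep V L) hp hAel hcard hQn hQcop (hnd _ hQr) hAQ hRQ hQA hAR hRcop
    hb hb1 hbR hRfpf hbQ hWA hfix' ⊤ (fun _ _ _ _ => Submodule.mem_top)
    (fun _ _ _ _ => Submodule.mem_top) (fun _ _ _ _ => Submodule.mem_top) q hq x hx
  rw [mem_centralizer_iff]
  intro v hv
  set g := x * q * x⁻¹ * q⁻¹ with hg
  have hgv : g⁻¹ * v * g = v := by
    by_contra hne
    obtain ⟨f, hf⟩ := exists_apply_ne_zero (L := L) hV
      (v := (⟨g⁻¹ * v * g, Normal.conj_mem' inferInstance _ hv g⟩ : V) * (⟨v, hv⟩ : V)⁻¹)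
      (fun h => hne (congrArg Subtype.val (mul_inv_eq_one.mp h)))
    have h1 : dualRep V L g f = f := by
      have h2 := key (dualRep V L q⁻¹ f) Submodule.mem_top
      rwa [← Module.End.mul_apply, ← map_mul, ← hg, apply_apply_inv] at h2
    have h3 := f.2 ((⟨g⁻¹ * v * g, Normal.conj_mem' inferInstance _ hv g⟩ : V) * (⟨v, hv⟩ : V)⁻¹)
      ⟨v, hv⟩
    rw [inv_mul_cancel_right] at h3
    have h4 := congrArg (fun k : dualSpace V L => k.1 ⟨v, hv⟩) h1
    simp only [dualRep_apply] at h4
    exact hf (right_eq_add.mp (h4.symm.trans h3))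
  calc v * g = g * (g⁻¹ * v * g) := by group
    _ = g * v := by rw [hgv]

end Cfsg.Agent.Lib.Ward
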