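import Mathlib

/-!
# Weight spaces of a finite group acting linearly through an abelian quotient

`ρ : Γ →* End W`, `Z ≤ Γ` finite of order invertible in the field, and `U` a `Z`-stable submodule
on which the elements of `Z` commute. Then `U` is spanned by the weight spaces of linear
characters of `Z`.
-/

set_option autoImplicit false

namespace Cfsg.Agent.Lib.Ward

open scoped commutatorElement

variable {Γ L W : Type*} [Group Γ] [Field L] [AddCommGroup W] [Module L W]
variable (ρ : Γ →* Module.End L W) (Z : Subgroup Γ)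

/-- The weight space of a linear character of `Z`. -/
def wt (χ : Z →* Lˣ) : Submodule L W where
  carrier := {w | ∀ z : Z, ρ (z : Γ) w = (χ z : L) • w}
  add_mem' {a b} ha hb z := by rw [map_add, ha z, hb z, smul_add]
  zero_mem' z := by simp
  smul_mem' c {a} ha z := by rw [map_smul, ha z, smul_comm]

variable {ρ Z}

theorem mem_wt {χ : Z →* Lˣ} {w : W} :
    w ∈ wt ρ Z χ ↔ ∀ z : Z, ρ (z : Γ) w = (χ z : L) • w := Iff.rfl

variable (ρ Z) in
/-- The projection onto the weight space of `χ`. -/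
noncomputable def proj [Fintype Z] (χ : Z →* Lˣ) : Module.End L W :=
  (Nat.card Z : L)⁻¹ • ∑ z : Z, ((χ z)⁻¹ : Lˣ).val • ρ (z : Γ)

variable [Fintype Z]

theorem proj_apply (χ : Z →* Lˣ) (w : W) :
    proj ρ Z χ w = (Nat.card Z : L)⁻¹ • ∑ z : Z, ((χ z)⁻¹ : Lˣ).val • ρ (z : Γ) w := by
  simp only [proj, LinearMap.smul_apply, LinearMap.sum_apply]

theorem proj_mem_wt (χ : Z →* Lˣ) (w : W) : proj ρ Z χ w ∈ wt ρ Z χ := by
  intro y
  rw [proj_apply, map_smul, map_sum, smul_comm (χ y : L), Finset.smul_sum (r := (χ y : L))]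
  congr 1
  refine Fintype.sum_equiv (Equiv.mulLeft y) _ _ fun z => ?_
  rw [Equiv.coe_mulLeft, map_smul, ← Module.End.mul_apply, ← map_mul, Subgroup.coe_mul, smul_smul,
    map_mul χ]
  congr 1
  rw [mul_inv_rev, Units.val_mul, mul_comm ((χ z)⁻¹ : Lˣ).val, ← mul_assoc, Units.mul_inv, one_mul]

theorem proj_eq_self (hZ : (Nat.card Z : L) ≠ 0) {χ : Z →* Lˣ} {w : W} (hw : w ∈ wt ρ Z χ) :
    proj ρ Z χ w = w := by
  rw [proj_apply, Finset.sum_congr rfl (g := fun _ => w) fun z _ => by
      rw [hw z, smul_smul, Units.inv_mul, one_smul],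
    Finset.sum_const, Finset.card_univ, ← Nat.card_eq_fintype_card, ← Nat.cast_smul_eq_nsmul L,
    smul_smul, inv_mul_cancel₀ hZ, one_smul]

theorem proj_eq_zero {χ ψ : Z →* Lˣ} (hne : χ ≠ ψ) {w : W} (hw : w ∈ wt ρ Z ψ) :
    proj ρ Z χ w = 0 := by
  have hf : ((Units.coeHom L).comp (χ⁻¹ * ψ)) ≠ 1 := by
    intro h
    refine hne (MonoidHom.ext fun z => ?_)
    have := DFunLike.congr_fun h z
    simp only [MonoidHom.comp_apply, Units.coeHom_apply, MonoidHom.mul_apply, MonoidHom.inv_apply,
      MonoidHom.one_apply, Units.val_eq_one] at this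
    exact inv_mul_eq_one.mp this
  rw [proj_apply, Finset.sum_congr rfl
      (g := fun z => ((Units.coeHom L).comp (χ⁻¹ * ψ)) z • w) fun z _ => by
        rw [hw z, smul_smul]
        rfl,
    ← Finset.sum_smul, sum_hom_units_eq_zero _ hf, zero_smul, smul_zero]

/-- A submodule stable under `Z` is stable under the projections. -/
theorem proj_mem (χ : Z →* Lˣ) {U : Submodule L W} (hU : ∀ z ∈ Z, ∀ w ∈ U, ρ z w ∈ U) {w : W}
    (hw : w ∈ U) : proj ρ Z χ w ∈ U := by
  rw [proj_apply]
  exact U.smul_mem _ (U.sum_mem fun z _ => U.smul_mem _ (hU _ z.2 w hw))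

/-- Elements of the derived group act trivially where `Z` acts commutatively. -/
theorem apply_eq_self_of_mem_commutator {U : Submodule L W}
    (hU : ∀ z ∈ Z, ∀ w ∈ U, ρ z w ∈ U)
    (hcomm : ∀ y ∈ Z, ∀ z ∈ Z, ∀ w ∈ U, ρ (y * z) w = ρ (z * y) w)
    {z : Z} (hz : z ∈ commutator Z) : ∀ w ∈ U, ρ (z : Γ) w = w := by
  have hz' : z ∈ Subgroup.closure (commutatorSet Z) := by rwa [← commutator_eq_closure]
  induction hz' using Subgroup.closure_induction with
  | mem x hx =>
    obtain ⟨a, b, rfl⟩ := hx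
    intro w hw
    have e : ((⁅a, b⁆ : Z) : Γ) = ((a : Γ) * b) * ((a : Γ)⁻¹ * (b : Γ)⁻¹) := by
      rw [commutatorElement_def]
      push_cast
      group
    rw [e, map_mul, Module.End.mul_apply, hcomm _ a.2 _ b.2 _
      (hU _ (Z.mul_mem (Z.inv_mem a.2) (Z.inv_mem b.2)) w hw), ← Module.End.mul_apply, ← map_mul,
      show (b : Γ) * a * ((a : Γ)⁻¹ * (b : Γ)⁻¹) = 1 by group, map_one, Module.End.one_apply]
  | one =>
    intro w _
    rw [Subgroup.coe_one, map_one, Module.End.one_apply]
  | mul x y hx hy ihx ihy =>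
    intro w hw
    rw [Subgroup.coe_mul, map_mul, Module.End.mul_apply,
      ihy (by rw [commutator_eq_closure]; exact hy) w hw,
      ihx (by rw [commutator_eq_closure]; exact hx) w hw]
  | inv x hx ih =>
    intro w hw
    have h1 := ih (by rw [commutator_eq_closure]; exact hx) w hw
    conv_lhs => rw [← h1]
    rw [← Module.End.mul_apply, ← map_mul, Subgroup.coe_inv, inv_mul_cancel, map_one,
      Module.End.one_apply]

variable [IsAlgClosed L]

/-- Completeness: two linear maps agreeing on every weight space in `U` agree on `U`. -/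
theorem eq_of_forall_wt {W' : Type*} [AddCommGroup W'] [Module L W']
    (hZ : (Nat.card Z : L) ≠ 0) {U : Submodule L W} (hU : ∀ z ∈ Z, ∀ w ∈ U, ρ z w ∈ U)
    (hcomm : ∀ y ∈ Z, ∀ z ∈ Z, ∀ w ∈ U, ρ (y * z) w = ρ (z * y) w) {f g : W →ₗ[L] W'}
    (h : ∀ χ : Z →* Lˣ, ∀ w ∈ U, w ∈ wt ρ Z χ → f w = g w) : ∀ w ∈ U, f w = g w := by
  classical
  intro w hw
  haveI : Finite (Abelianization Z) := inferInstanceAs (Finite (Z ⧸ commutator Z))
  haveI : NeZero ((Monoid.exponent (Abelianization Z) : ℕ) : L) := by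
    refine ⟨fun h0 => hZ ?_⟩
    obtain ⟨k, hk⟩ := (Group.exponent_dvd_nat_card (G := Abelianization Z)).trans
      (Subgroup.card_quotient_dvd_card (commutator Z))
    rw [hk, Nat.cast_mul, h0, zero_mul]
  haveI : HasEnoughRootsOfUnity L (Monoid.exponent (Abelianization Z)) :=
    IsSepClosed.hasEnoughRootsOfUnity L _
  haveI : Finite (Z →* Lˣ) := by
    haveI : Finite (Abelianization Z →* Lˣ) := Finite.of_equiv _
      (CommGroup.monoidHom_mulEquiv_of_hasEnoughRootsOfUnity (Abelianization Z) L).some.symm.toEquiv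
    exact Finite.of_equiv _ Abelianization.lift.symm
  haveI := Fintype.ofFinite (Z →* Lˣ)
  -- the character sum
  let c : Z → L := fun z => ∑ χ : Z →* Lˣ, ((χ z)⁻¹ : Lˣ).val
  have hsum : ∑ χ : Z →* Lˣ, proj ρ Z χ w = w := by
    have h1 : ∀ z : Z, c z • ρ (z : Γ) w = c z • w := by
      intro z
      by_cases hz : z ∈ commutator Z
      · rw [apply_eq_self_of_mem_commutator hU hcomm hz w hw]
      · obtain ⟨φ, hφ⟩ := CommGroup.exists_apply_ne_one_of_hasEnoughRootsOfUnity
          (Abelianization Z) L (a := Abelianization.of z)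
          (fun h => hz ((QuotientGroup.eq_one_iff z).mp h))
        let f0 : (Z →* Lˣ) →* L :=
          { toFun := fun χ => ((χ z)⁻¹ : Lˣ).val
            map_one' := by simp
            map_mul' := fun a b => by
              simp only [MonoidHom.mul_apply, mul_inv, Units.val_mul] }
        have hf0 : f0 ≠ 1 := by
          intro h
          have h2 := DFunLike.congr_fun h (φ.comp Abelianization.of)
          simp only [f0, MonoidHom.coe_mk, OneHom.coe_mk, MonoidHom.comp_apply,
            MonoidHom.one_apply, Units.val_eq_one, inv_eq_one] at h2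
          exact hφ h2
        have h0 : c z = 0 := sum_hom_units_eq_zero f0 hf0
        rw [h0, zero_smul, zero_smul]
    have hc : ∑ z : Z, c z = (Nat.card Z : L) := by
      simp only [c]
      rw [Finset.sum_comm, Finset.sum_eq_single (1 : Z →* Lˣ)]
      · simp
      · intro χ _ hχ
        refine sum_hom_units_eq_zero ((Units.coeHom L).comp χ⁻¹) fun h => hχ ?_
        refine MonoidHom.ext fun z => ?_
        have h2 := DFunLike.congr_fun h z
        simpa using h2
      · simp
    calc ∑ χ : Z →* Lˣ, proj ρ Z χ w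
        = (Nat.card Z : L)⁻¹ • ∑ z : Z, c z • ρ (z : Γ) w := by
          simp only [proj_apply, c, Finset.sum_smul]
          rw [← Finset.smul_sum, Finset.sum_comm]
      _ = (Nat.card Z : L)⁻¹ • ∑ z : Z, c z • w := by simp only [h1]
      _ = w := by rw [← Finset.sum_smul, hc, smul_smul, inv_mul_cancel₀ hZ, one_smul]
  rw [← hsum, map_sum, map_sum]
  exact Finset.sum_congr rfl fun χ _ => h χ _ (proj_mem χ hU hw) (proj_mem_wt χ w)

end Cfsg.Agent.Lib.Ward
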