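import Cfsg.Prelude
import Cfsg.Agent.Lib.Coprime.Generation
import Cfsg.Agent.Lib.Coprime.Quotient
import Cfsg.Agent.Lib.Coprime.Sylow
import Cfsg.Agent.Lib.Core.Nilpotent
import Cfsg.Agent.Lib.Ward.Weights

/-!
# The linear core of Ward's theorem

`A` is elementary abelian of order `p²`, without fixed points on the linear space `W`; `Q` is a
nilpotent `A`-invariant group such that `C_Q(e)` fixes `C_W(e)` pointwise, and `R ≤ C(b)` is an
`A`-invariant group normalizing `Q` on which the elements of `A` outside `⟨b⟩` act without fixed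
points, `R` commuting with `C_Q(b)`. Then `R` centralizes the image of `Q` in `End W`.
-/

set_option autoImplicit false

namespace Cfsg.Agent.Lib.Ward

open Subgroup
open Cfsg.Agent.Lib.Coprime (le_of_noncyclic le_normalizer_of_conj_mem conj_mem_of_le_normalizer
  commutator_sup_centralizer coprime_of_le_right)

/-! ### Elementary abelian groups of order `p²` -/

section Rank2

variable {Γ : Type*} [Group Γ]

theorem mem_zpowers_of_prime {p : ℕ} (hp : p.Prime) {e a : Γ} (he : e ^ p = 1)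
    (ha : a ∈ zpowers e) (ha1 : a ≠ 1) : e ∈ zpowers a := by
  have he1 : e ≠ 1 := by
    rintro rfl
    obtain ⟨i, rfl⟩ := mem_zpowers_iff.mp ha
    exact ha1 (one_zpow i)
  haveI := Fact.mk hp
  have hcard : Nat.card (zpowers e) = p := by
    rw [Nat.card_zpowers, orderOf_eq_prime he he1]
  obtain ⟨i, hi⟩ := mem_zpowers_iff.mp (mem_zpowers_of_prime_card hcard
    (g := (⟨a, ha⟩ : zpowers e)) (g' := ⟨e, mem_zpowers e⟩) (fun h => ha1 (congrArg Subtype.val h)))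
  exact mem_zpowers_iff.mpr ⟨i, by simpa using congrArg Subtype.val hi⟩

variable [Finite Γ] {p : ℕ} {A : Subgroup Γ}

/-- Two independent elements of an elementary abelian group of order `p²` give every element. -/
theorem exists_zpow_mul_zpow (hp : p.Prime) (hAel : Cfsg.IsElementaryAbelian p A)
    (hcard : Nat.card A = p ^ 2) {b d : Γ} (hb : b ∈ A) (hb1 : b ≠ 1) (hd : d ∈ A)
    (hdb : d ∉ zpowers b) {a : Γ} (ha : a ∈ A) : ∃ i j : ℤ, a = b ^ i * d ^ j := by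
  haveI := Fact.mk hp
  have hd1 : d ≠ 1 := fun h => hdb (h ▸ (zpowers b).one_mem)
  let f : zpowers b × zpowers d → A := fun x =>
    ⟨x.1 * x.2, A.mul_mem ((zpowers_le.mpr hb) x.1.2) ((zpowers_le.mpr hd) x.2.2)⟩
  have hf : Function.Injective f := by
    rintro ⟨⟨x, hx⟩, ⟨y, hy⟩⟩ ⟨⟨x', hx'⟩, ⟨y', hy'⟩⟩ h
    have h' : x * y = x' * y' := congrArg Subtype.val h
    have hz : x'⁻¹ * x = y' * y⁻¹ := by
      rw [eq_mul_inv_iff_mul_eq, mul_assoc, h', inv_mul_cancel_left]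
    have hzb : x'⁻¹ * x ∈ zpowers b := mul_mem (inv_mem hx') hx
    have hzd : x'⁻¹ * x ∈ zpowers d := hz ▸ mul_mem hy' (inv_mem hy)
    have hz1 : x'⁻¹ * x = 1 := by
      by_contra hne
      exact hdb (zpowers_le.mpr hzb (mem_zpowers_of_prime hp (hAel.2 d hd) hzd hne))
    have hxx : x = x' := (inv_mul_eq_one.mp hz1).symm
    subst hxx
    have hyy : y = y' := mul_left_cancel h'
    subst hyy
    rfl
  have hbij : Function.Bijective f := by
    refine (Nat.bijective_iff_injective_and_card f).mpr ⟨hf, ?_⟩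
    rw [Nat.card_prod, Nat.card_zpowers, Nat.card_zpowers, orderOf_eq_prime (hAel.2 b hb) hb1,
      orderOf_eq_prime (hAel.2 d hd) hd1, hcard, sq]
  obtain ⟨⟨x, y⟩, hxy⟩ := hbij.2 ⟨a, ha⟩
  obtain ⟨i, hi⟩ := mem_zpowers_iff.mp x.2
  obtain ⟨j, hj⟩ := mem_zpowers_iff.mp y.2
  exact ⟨i, j, by rw [hi, hj]; exact (congrArg Subtype.val hxy).symm⟩

omit [Finite Γ] in
theorem commute_of_mem (hAel : Cfsg.IsElementaryAbelian p A) {x y : Γ} (hx : x ∈ A) (hy : y ∈ A) :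
    Commute x y :=
  congrArg Subtype.val (hAel.1.is_comm.comm ⟨x, hx⟩ ⟨y, hy⟩)

theorem not_isCyclic_of_sq (hp : p.Prime) (hAel : Cfsg.IsElementaryAbelian p A)
    (hcard : Nat.card A = p ^ 2) : ¬ IsCyclic A := by
  intro h
  obtain ⟨g, hg⟩ := h.exists_ofOrder_eq_natCard
  have h1 : orderOf g ∣ p := orderOf_dvd_of_pow_eq_one (Subtype.ext (by simpa using hAel.2 g g.2))
  rw [hg, hcard] at h1
  have h2 := Nat.le_of_dvd hp.pos h1
  have h3 := hp.two_le
  nlinarith [sq p]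

theorem exists_notMem_zpowers (hp : p.Prime) (hAel : Cfsg.IsElementaryAbelian p A)
    (hcard : Nat.card A = p ^ 2) (e : Γ) (he : e ∈ A) : ∃ d ∈ A, d ∉ zpowers e := by
  by_contra! h
  refine not_isCyclic_of_sq hp hAel hcard ?_
  haveI : IsCyclic (zpowers e) := inferInstance
  exact isCyclic_of_injective (inclusion (h : A ≤ zpowers e)) (inclusion_injective _)

end Rank2

/-! ### The core -/

variable {Γ L W : Type*} [Group Γ] [Field L] [AddCommGroup W] [Module L W]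

section Stab

variable (Z : Subgroup Γ) (χ : Z →* Lˣ)

/-- The stabilizer in `N(Z)` of a linear character of `Z`. -/
def stab : Subgroup Γ where
  carrier := {g | g ∈ normalizer (Z : Set Γ) ∧
    ∀ z z' : Z, g * (z : Γ) * g⁻¹ = (z' : Γ) → χ z' = χ z}
  one_mem' := ⟨one_mem _, fun z z' h => by rw [Subtype.ext (a1 := z) (a2 := z') (by simpa using h)]⟩
  mul_mem' {g h} hg hh := ⟨mul_mem hg.1 hh.1, fun z z' e => by
    rw [hg.2 ⟨h * z * h⁻¹, (mem_normalizer_iff.mp hh.1 _).mp z.2⟩ z' (by rw [← e]; simp only; group),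
      hh.2 z ⟨h * z * h⁻¹, (mem_normalizer_iff.mp hh.1 _).mp z.2⟩ rfl]⟩
  inv_mem' {g} hg := ⟨inv_mem hg.1, fun z z' e => (hg.2 z' z (by rw [← e]; group)).symm⟩

/-- The twist of `χ` by conjugation with `g`. -/
def tw {g : Γ} (hg : g ∈ normalizer (Z : Set Γ)) : Z →* Lˣ :=
  MonoidHom.mk' (fun z => χ ⟨g * z * g⁻¹, (mem_normalizer_iff.mp hg _).mp z.2⟩) fun a b => by
    rw [← map_mul]
    exact congrArg χ (Subtype.ext (by simp only [Subgroup.coe_mul]; group))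

theorem tw_apply {g : Γ} (hg : g ∈ normalizer (Z : Set Γ)) (z : Z) :
    tw Z χ hg z = χ ⟨g * z * g⁻¹, (mem_normalizer_iff.mp hg _).mp z.2⟩ := rfl

theorem tw_eq_iff {g : Γ} (hg : g ∈ normalizer (Z : Set Γ)) :
    tw Z χ hg = χ ↔ g ∈ stab Z χ := by
  constructor
  · refine fun h => ⟨hg, fun z z' e => ?_⟩
    rw [← DFunLike.congr_fun h z, tw_apply]
    exact congrArg χ (Subtype.ext e.symm)
  · intro h
    exact MonoidHom.ext fun z => h.2 z _ rfl

theorem conj_mem_stab_of_mem_stab_tw {g h : Γ} (hg : g ∈ normalizer (Z : Set Γ))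
    (hh : h ∈ stab Z (tw Z χ hg)) : g * h * g⁻¹ ∈ stab Z χ := by
  refine ⟨mul_mem (mul_mem hg hh.1) (inv_mem hg), fun z z' e => ?_⟩
  have hz : g⁻¹ * (z : Γ) * g ∈ Z := by
    simpa using (mem_normalizer_iff.mp (inv_mem hg) (z : Γ)).mp z.2
  have hz' : h * (g⁻¹ * (z : Γ) * g) * h⁻¹ ∈ Z := (mem_normalizer_iff.mp hh.1 _).mp hz
  have h1 := hh.2 ⟨_, hz⟩ ⟨_, hz'⟩ rfl
  rw [tw_apply, tw_apply] at h1
  refine Eq.trans ?_ (h1.trans ?_)
  · exact congrArg χ (Subtype.ext (by simp only [← e]; group))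
  · exact congrArg χ (Subtype.ext (by simp only; group))

variable {Z χ}

theorem mem_wt_tw {ρ : Γ →* Module.End L W} {g : Γ} (hg : g ∈ normalizer (Z : Set Γ)) {w : W}
    (hw : w ∈ wt ρ Z χ) : ρ g w ∈ wt ρ Z (tw Z χ (inv_mem hg)) := by
  intro z
  have hz : g⁻¹ * (z : Γ) * g⁻¹⁻¹ ∈ Z := (mem_normalizer_iff.mp (inv_mem hg) _).mp z.2
  have h1 := hw ⟨_, hz⟩
  calc ρ (z : Γ) (ρ g w) = ρ g (ρ (g⁻¹ * (z : Γ) * g⁻¹⁻¹) w) := by
        rw [← Module.End.mul_apply, ← map_mul, ← Module.End.mul_apply, ← map_mul]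
        congr 2
        group
    _ = (tw Z χ (inv_mem hg) z : L) • ρ g w := by rw [h1, map_smul]; rfl

theorem mem_wt_of_mem_stab {ρ : Γ →* Module.End L W} {g : Γ} (hg : g ∈ stab Z χ) {w : W}
    (hw : w ∈ wt ρ Z χ) : ρ g w ∈ wt ρ Z χ := by
  simpa [(tw_eq_iff Z χ (inv_mem hg.1)).mpr (inv_mem hg)] using mem_wt_tw hg.1 hw

theorem proj_eq_zero_of_notMem_stab [Fintype Z] {ρ : Γ →* Module.End L W} {g : Γ}
    (hg : g ∈ normalizer (Z : Set Γ)) (hgs : g ∉ stab Z χ) {w : W} (hw : w ∈ wt ρ Z χ) :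
    proj ρ Z χ (ρ g w) = 0 :=
  proj_eq_zero (fun h => hgs (inv_inv g ▸ inv_mem ((tw_eq_iff Z χ (inv_mem hg)).mp h.symm)))
    (mem_wt_tw hg hw)

end Stab

variable (ρ : Γ →* Module.End L W)

theorem apply_inv_apply (g : Γ) (w : W) : ρ g⁻¹ (ρ g w) = w := by
  rw [← Module.End.mul_apply, ← map_mul, inv_mul_cancel, map_one, Module.End.one_apply]

theorem apply_apply_inv (g : Γ) (w : W) : ρ g (ρ g⁻¹ w) = w := by
  rw [← Module.End.mul_apply, ← map_mul, mul_inv_cancel, map_one, Module.End.one_apply]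

/-- The elements of `Q` whose images on `V` are fixed by conjugation with `g`. -/
def twEq (Q : Subgroup Γ) (V : Submodule L W) (hV : ∀ q ∈ Q, ∀ w ∈ V, ρ q w ∈ V) (g : Γ) :
    Subgroup Γ where
  carrier := {q | q ∈ Q ∧ ∀ w ∈ V, ρ (g * q * g⁻¹) w = ρ q w}
  one_mem' := ⟨Q.one_mem, fun w _ => by rw [mul_one, mul_inv_cancel]⟩
  mul_mem' {q r} hq hr := ⟨Q.mul_mem hq.1 hr.1, fun w hw => by
    rw [show g * (q * r) * g⁻¹ = (g * q * g⁻¹) * (g * r * g⁻¹) by group, map_mul,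
      Module.End.mul_apply, hr.2 w hw, hq.2 _ (hV r hr.1 w hw), ← Module.End.mul_apply, ← map_mul]⟩
  inv_mem' {q} hq := ⟨Q.inv_mem hq.1, fun w hw => by
    have h := hq.2 _ (hV _ (Q.inv_mem hq.1) w hw)
    rw [apply_apply_inv] at h
    conv_lhs => rw [← h]
    rw [show g * q⁻¹ * g⁻¹ = (g * q * g⁻¹)⁻¹ by group, apply_inv_apply]⟩

variable [Finite Γ] [IsAlgClosed L] [FiniteDimensional L W]

/-- The linear core of Ward's theorem. -/
theorem apply_conj_eq {p : ℕ} (hp : p.Prime) {A Q R : Subgroup Γ}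
    (hAel : Cfsg.IsElementaryAbelian p A) (hcard : Nat.card A = p ^ 2)
    (hQn : Group.IsNilpotent Q) (hQcop : (Nat.card A).Coprime (Nat.card Q))
    (hQL : (Nat.card Q : L) ≠ 0) (hAQ : A ≤ normalizer (Q : Set Γ))
    (hRQ : R ≤ normalizer (Q : Set Γ)) (hQA : Q ⊓ centralizer (A : Set Γ) = ⊥)
    (hAR : A ≤ normalizer (R : Set Γ)) (hRcop : p.Coprime (Nat.card R))
    {b : Γ} (hb : b ∈ A) (hb1 : b ≠ 1) (hbR : ∀ x ∈ R, Commute x b)
    (hRfpf : ∀ e ∈ A, e ∉ zpowers b → ∀ x ∈ R, Commute x e → x = 1)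
    (hbQ : ∀ q ∈ Q, Commute q b → ∀ x ∈ R, Commute q x)
    (hWA : ∀ w : W, (∀ a ∈ A, ρ a w = w) → w = 0)
    (hfix : ∀ e ∈ A, e ≠ 1 → ∀ q ∈ Q, Commute q e → ∀ w : W, ρ e w = w → ρ q w = w)
    (U : Submodule L W) (hUA : ∀ a ∈ A, ∀ w ∈ U, ρ a w ∈ U) (hUQ : ∀ q ∈ Q, ∀ w ∈ U, ρ q w ∈ U)
    (hUR : ∀ x ∈ R, ∀ w ∈ U, ρ x w ∈ U) :
    ∀ q ∈ Q, ∀ x ∈ R, ∀ w ∈ U, ρ (x * q * x⁻¹) w = ρ q w := by
  classical
  induction U using WellFoundedLT.induction with
  | _ U IH =>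
  -- the preimage of the centre of the image of `Q` on `U`
  let Z : Subgroup Γ :=
    { carrier := {z | z ∈ Q ∧ ∀ x ∈ Q, ∀ w ∈ U, ρ (z * x) w = ρ (x * z) w}
      one_mem' := ⟨Q.one_mem, fun x _ w _ => by rw [one_mul, mul_one]⟩
      mul_mem' := fun {a c} ha hc => ⟨Q.mul_mem ha.1 hc.1, fun x hx w hw => by
        rw [mul_assoc a c x, map_mul ρ a, Module.End.mul_apply, hc.2 x hx w hw,
          ← Module.End.mul_apply, ← map_mul, ← mul_assoc, map_mul ρ (a * x), Module.End.mul_apply,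
          ha.2 x hx _ (hUQ c hc.1 w hw), ← Module.End.mul_apply, ← map_mul, mul_assoc]⟩
      inv_mem' := fun {z} hz => ⟨Q.inv_mem hz.1, fun x hx w hw => by
        have h := hz.2 x hx _ (hUQ _ (Q.inv_mem hz.1) w hw)
        rw [← Module.End.mul_apply (ρ (x * z)), ← map_mul, mul_inv_cancel_right,
          ← Module.End.mul_apply, ← map_mul] at h
        rw [map_mul ρ z⁻¹, Module.End.mul_apply, ← h, ← Module.End.mul_apply, ← map_mul,
          show z⁻¹ * (z * x * z⁻¹) = x * z⁻¹ by group]⟩ }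
  have hZQ : Z ≤ Q := fun z hz => hz.1
  have hUZ : ∀ z ∈ Z, ∀ w ∈ U, ρ z w ∈ U := fun z hz => hUQ z (hZQ hz)
  have hcomm : ∀ y ∈ Z, ∀ z ∈ Z, ∀ w ∈ U, ρ (y * z) w = ρ (z * y) w :=
    fun y hy z hz => hy.2 z (hZQ hz)
  have hnormZ : ∀ H : Subgroup Γ, H ≤ normalizer (Q : Set Γ) →
      (∀ g ∈ H, ∀ w ∈ U, ρ g w ∈ U) → H ≤ normalizer (Z : Set Γ) := by
    intro H hH hUH
    refine le_normalizer_of_conj_mem fun g hg z hz =>
      ⟨conj_mem_of_le_normalizer hH hg hz.1, fun x hx w hw => ?_⟩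
    have hx' : g⁻¹ * x * g ∈ Q := by
      simpa using conj_mem_of_le_normalizer hH (inv_mem hg) hx
    have h := hz.2 _ hx' _ (hUH _ (inv_mem hg) w hw)
    rw [show g * z * g⁻¹ * x = g * (z * (g⁻¹ * x * g)) * g⁻¹ by group,
      show x * (g * z * g⁻¹) = g * ((g⁻¹ * x * g) * z) * g⁻¹ by group]
    simp only [map_mul ρ (g * _), map_mul ρ g, Module.End.mul_apply, h]
  have hAZ := hnormZ A hAQ hUA
  have hRZ := hnormZ R hRQ hUR
  have hZcard : (Nat.card Z : L) ≠ 0 := by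
    obtain ⟨k, hk⟩ := card_dvd_of_le hZQ
    intro h
    rw [hk, Nat.cast_mul, h, zero_mul] at hQL
    exact hQL rfl
  have hncyc := not_isCyclic_of_sq hp hAel hcard
  haveI : IsMulCommutative A := hAel.1
  haveI := Fact.mk hp
  haveI : Fintype Z := Fintype.ofFinite Z
  intro q hq x hx
  by_cases htriv : ∀ z ∈ Z, ∀ w ∈ U, ρ z w = w
  · -- then `Q` is trivial on `U`
    let K0 : Subgroup Q :=
      { carrier := {q | ∀ w ∈ U, ρ (q : Γ) w = w}
        one_mem' := fun w _ => by simp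
        mul_mem' := fun {a c} ha hc w hw => by
          rw [Subgroup.coe_mul, map_mul, Module.End.mul_apply, hc w hw, ha w hw]
        inv_mem' := fun {a} ha w hw => by
          conv_lhs => rw [← ha w hw]
          rw [Subgroup.coe_inv, apply_inv_apply] }
    haveI : K0.Normal := ⟨fun n hn g w hw => by
      rw [Subgroup.coe_mul, Subgroup.coe_mul, Subgroup.coe_inv, map_mul, map_mul,
        Module.End.mul_apply, Module.End.mul_apply, hn _ (hUQ _ (Q.inv_mem g.2) w hw),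
        apply_apply_inv]⟩
    haveI := hQn
    have hK0 : ∀ q : Q, q ∈ K0 := by
      by_contra! hne
      obtain ⟨q0, hq0⟩ := hne
      haveI : Nontrivial (Q ⧸ K0) :=
        ⟨⟨(q0 : Q ⧸ K0), 1, fun h => hq0 ((QuotientGroup.eq_one_iff q0).mp h)⟩⟩
      obtain ⟨⟨y, hy⟩, hy0⟩ := Subgroup.ne_bot_iff_exists_ne_one.mp
        (Cfsg.Agent.Lib.Nilp.inf_center_ne_bot_of_normal (N := (⊤ : Subgroup (Q ⧸ K0))) top_ne_bot)
      have hy1 : y ≠ 1 := fun h => hy0 (Subtype.ext h)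
      replace hy := hy.2
      obtain ⟨y, rfl⟩ := QuotientGroup.mk_surjective y
      have hyZ : (y : Γ) ∈ Z := by
        refine ⟨y.2, fun x hx w hw => ?_⟩
        have h2 : ((⟨x, hx⟩ * y : Q) : Q ⧸ K0) = ((y * ⟨x, hx⟩ : Q) : Q ⧸ K0) :=
          Subgroup.mem_center_iff.mp hy ((⟨x, hx⟩ : Q) : Q ⧸ K0)
        have h3 := (QuotientGroup.eq.mp h2) w hw
        conv_rhs => rw [← h3]
        rw [Subgroup.coe_mul, Subgroup.coe_inv, Subgroup.coe_mul, Subgroup.coe_mul,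
          ← Module.End.mul_apply, ← map_mul, mul_inv_cancel_left]
      exact hy1 ((QuotientGroup.eq_one_iff y).mpr (htriv _ hyZ))
    intro w hw
    rw [hK0 ⟨q, hq⟩ w hw, hK0 ⟨x * q * x⁻¹, conj_mem_of_le_normalizer hRQ hx hq⟩ w hw]
  refine eq_of_forall_wt hZcard hUZ hcomm fun χ w hwU hw => ?_
  by_cases hχ1 : χ = 1
  · -- the fixed points of `Z`
    subst hχ1
    have hmem : ∀ v : W, v ∈ wt ρ Z (1 : Z →* Lˣ) ↔ ∀ z ∈ Z, ρ z v = v := fun v =>
      ⟨fun h z hz => by simpa using h ⟨z, hz⟩, fun h z => by simpa using h _ z.2⟩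
    have hlt : U ⊓ wt ρ Z (1 : Z →* Lˣ) < U := by
      refine lt_of_le_of_ne inf_le_left fun h => htriv fun z hz v hv => ?_
      exact (hmem v).mp (inf_eq_left.mp h hv) z hz
    have hst : ∀ H : Subgroup Γ, H ≤ normalizer (Z : Set Γ) → (∀ g ∈ H, ∀ v ∈ U, ρ g v ∈ U) →
        ∀ g ∈ H, ∀ v ∈ U ⊓ wt ρ Z (1 : Z →* Lˣ), ρ g v ∈ U ⊓ wt ρ Z (1 : Z →* Lˣ) := by
      refine fun H hH hUH g hg v hv => ⟨hUH g hg v hv.1, ?_⟩
      exact mem_wt_of_mem_stab ⟨hH hg, fun _ _ _ => rfl⟩ hv.2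
    refine IH _ hlt (hst A hAZ hUA) (fun q hq v hv => ⟨hUQ q hq v hv.1, (hmem _).mpr fun z hz => ?_⟩)
      (hst R hRZ hUR) q hq x hx w ⟨hwU, hw⟩
    rw [← Module.End.mul_apply, ← map_mul, hz.2 q hq v hv.1, map_mul, Module.End.mul_apply,
      (hmem v).mp hv.2 z hz]
  by_cases hw0 : w = 0
  · simp [hw0]
  have hVQ : ∀ ψ : Z →* Lˣ, ∀ q ∈ Q, ∀ v ∈ U ⊓ wt ρ Z ψ, ρ q v ∈ U ⊓ wt ρ Z ψ := by
    refine fun ψ q hq v hv => ⟨hUQ q hq v hv.1, fun z => ?_⟩
    rw [← Module.End.mul_apply, ← map_mul, z.2.2 q hq v hv.1, map_mul, Module.End.mul_apply,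
      hv.2 z, map_smul]
  have horb : ∀ H : Subgroup Γ, ∀ v : W, ∀ h : H,
      ρ (h : Γ) (∑ᶠ a : H, ρ (a : Γ) v) = ∑ᶠ a : H, ρ (a : Γ) v := by
    intro H v h
    haveI := Fintype.ofFinite H
    rw [finsum_eq_sum_of_fintype, map_sum]
    refine Fintype.sum_equiv (Equiv.mulLeft h) _ _ fun a => ?_
    rw [Equiv.coe_mulLeft, ← Module.End.mul_apply, ← map_mul, Subgroup.coe_mul]
  have hproj : ∀ H : Subgroup Γ, ∀ ψ : Z →* Lˣ, H ≤ normalizer (Z : Set Γ) →
      (∀ h ∈ H, h ∈ stab Z ψ → h = 1) → ∀ v ∈ wt ρ Z ψ,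
      proj ρ Z ψ (∑ᶠ a : H, ρ (a : Γ) v) = v := by
    intro H ψ hH hS v hv
    haveI := Fintype.ofFinite H
    rw [finsum_eq_sum_of_fintype, map_sum, Finset.sum_eq_single (1 : H)]
    · rw [Subgroup.coe_one, map_one, Module.End.one_apply, proj_eq_self hZcard hv]
    · exact fun a _ ha => proj_eq_zero_of_notMem_stab (hH a.2)
        (fun h => ha (Subtype.ext (hS _ a.2 h))) hv
    · simp
  -- stabilisers of nontrivial weights
  have hstab : ∀ ψ : Z →* Lˣ, ψ ≠ 1 → (∃ u ∈ U ⊓ wt ρ Z ψ, u ≠ 0) →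
      ∃ d ∈ A, d ≠ 1 ∧ d ∈ stab Z ψ ∧ (∀ e ∈ A, e ∈ stab Z ψ → e ∈ zpowers d) ∧
        (∀ e ∈ A, e ∉ zpowers d → ∀ q ∈ Q, Commute q e → ∀ v ∈ U ⊓ wt ρ Z ψ, ρ q v = v) ∧
        ∀ e ∈ A, e ∉ zpowers d → ∀ z : Z, Commute (z : Γ) e → ψ z = 1 := by
    rintro ψ hψ ⟨u, hu, hu0⟩
    obtain ⟨d, hd, hdS, hd1⟩ : ∃ d ∈ A, d ∈ stab Z ψ ∧ d ≠ 1 := by
      by_contra! hS
      refine hu0 ?_
      have h1 := hproj A ψ hAZ hS u hu.2
      rw [hWA _ fun a ha => horb A u ⟨a, ha⟩, map_zero] at h1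
      exact h1.symm
    have honly : ∀ e ∈ A, e ∈ stab Z ψ → e ∈ zpowers d := by
      intro e he heS
      by_contra hed
      refine hψ ?_
      have hAS : A ≤ stab Z ψ := fun a ha => by
        obtain ⟨i, j, rfl⟩ := exists_zpow_mul_zpow hp hAel hcard hd hd1 he hed ha
        exact mul_mem (zpow_mem hdS i) (zpow_mem heS j)
      have hZA : Z ⊓ centralizer (A : Set Γ) = ⊥ :=
        le_bot_iff.mp (hQA ▸ inf_le_inf_right _ hZQ)
      have hcomm' := commutator_sup_centralizer hAZ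
        (coprime_of_le_right ((Cfsg.Agent.Lib.Coprime.commutator_le_of_le_normalizer hAZ).trans hZQ)
          hQcop)
        (Or.inl (Group.isSolvable_of_comm (G := A) fun a c => hAel.1.is_comm.comm a c))
      rw [hZA, sup_bot_eq] at hcomm'
      have hker : ⁅Z, A⁆ ≤ ψ.ker.map Z.subtype := by
        rw [commutator_le]
        intro z hz a ha
        have hz' : a * z⁻¹ * a⁻¹ ∈ Z := conj_mem_of_le_normalizer hAZ ha (inv_mem hz)
        refine ⟨⟨z, hz⟩ * ⟨_, hz'⟩, ?_, ?_⟩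
        · rw [SetLike.mem_coe, MonoidHom.mem_ker, map_mul, (hAS ha).2 ⟨z⁻¹, inv_mem hz⟩ ⟨_, hz'⟩ rfl,
            show (⟨z⁻¹, inv_mem hz⟩ : Z) = (⟨z, hz⟩ : Z)⁻¹ from rfl, map_inv, mul_inv_cancel]
        · rw [commutatorElement_def]
          simp only [map_mul, Subgroup.coe_subtype]
          group
      rw [hcomm'] at hker
      refine MonoidHom.ext fun z => ?_
      obtain ⟨z', hz', hzz⟩ := hker z.2
      rw [← Subtype.ext (a1 := z') (a2 := z) hzz]
      exact hz'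
    have htrivQ : ∀ e ∈ A, e ∉ zpowers d → ∀ q ∈ Q, Commute q e →
        ∀ v ∈ U ⊓ wt ρ Z ψ, ρ q v = v := by
      intro e he hed q hq hqe v hv
      have he1 : e ≠ 1 := fun h => hed (h ▸ one_mem _)
      have hH : zpowers e ≤ normalizer (Z : Set Γ) := (zpowers_le.mpr he).trans hAZ
      have hS : ∀ h ∈ zpowers e, h ∈ stab Z ψ → h = 1 := by
        intro h hh hhS
        by_contra hh1
        exact hed (zpowers_le.mpr (honly h (zpowers_le.mpr he hh) hhS)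
          (mem_zpowers_of_prime hp (hAel.2 e he) hh hh1))
      have hfixed := hfix e he he1 q hq hqe _ (horb (zpowers e) v ⟨e, mem_zpowers e⟩)
      have hswap : ρ q (∑ᶠ a : zpowers e, ρ (a : Γ) v) = ∑ᶠ a : zpowers e, ρ (a : Γ) (ρ q v) := by
        haveI := Fintype.ofFinite (zpowers e)
        rw [finsum_eq_sum_of_fintype, finsum_eq_sum_of_fintype, map_sum]
        refine Finset.sum_congr rfl fun a _ => ?_
        obtain ⟨i, hi⟩ := mem_zpowers_iff.mp a.2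
        rw [← Module.End.mul_apply, ← map_mul, ← hi, (hqe.zpow_right i).eq, map_mul,
          Module.End.mul_apply]
      have h1 := congrArg (proj ρ Z ψ) hfixed
      rwa [hswap, hproj _ ψ hH hS _ (hVQ ψ q hq v hv).2, hproj _ ψ hH hS _ hv.2] at h1
    refine ⟨d, hd, hd1, hdS, honly, htrivQ, fun e he hed z hze => ?_⟩
    have h1 := (hu.2 z).symm.trans (htrivQ e he hed z (hZQ z.2) hze u hu)
    exact Units.ext ((smul_left_injective L hu0) (h1.trans (one_smul L u).symm))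
  obtain ⟨d, hd, hd1, hdS, honly, htrivQ, hkill⟩ := hstab χ hχ1 ⟨w, ⟨hwU, hw⟩, hw0⟩
  -- twists of `χ` by elements of `R` are again nontrivial weights
  have htwist : ∀ {g : Γ} (hg : g ∈ R), tw Z χ (hRZ hg) ≠ 1 ∧
      ∃ u ∈ U ⊓ wt ρ Z (tw Z χ (hRZ hg)), u ≠ 0 := by
    intro g hg
    refine ⟨fun h => hχ1 (MonoidHom.ext fun z => ?_), ρ g⁻¹ w, ⟨hUR _ (inv_mem hg) w hwU, ?_⟩,
      fun h => hw0 ?_⟩
    · have hz : g⁻¹ * (z : Γ) * g⁻¹⁻¹ ∈ Z := conj_mem_of_le_normalizer hRZ (inv_mem hg) z.2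
      have h1 := DFunLike.congr_fun h ⟨_, hz⟩
      rw [tw_apply] at h1
      refine Eq.trans (congrArg χ (Subtype.ext ?_)) h1
      simp only
      group
    · simpa using mem_wt_tw (inv_mem (hRZ hg)) hw
    · rw [← apply_apply_inv ρ g w, h, map_zero]
  have hsurj : d ∉ zpowers b → ∀ u ∈ R, ∃ y ∈ R, d⁻¹ * y * d * y⁻¹ = u := by
    intro hdb u hu
    have hmem : ∀ y : R, d⁻¹ * (y : Γ) * d * (y : Γ)⁻¹ ∈ R := fun y =>
      R.mul_mem (by simpa using conj_mem_of_le_normalizer hAR (inv_mem hd) y.2) (R.inv_mem y.2)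
    have hinj : Function.Injective fun y : R => (⟨_, hmem y⟩ : R) := by
      intro y y' h
      have h' : d⁻¹ * (y : Γ) * d * (y : Γ)⁻¹ = d⁻¹ * (y' : Γ) * d * (y' : Γ)⁻¹ :=
        congrArg Subtype.val h
      have hc : Commute ((y' : Γ)⁻¹ * y) d := by
        show (y' : Γ)⁻¹ * y * d = d * ((y' : Γ)⁻¹ * y)
        calc (y' : Γ)⁻¹ * y * d = (y' : Γ)⁻¹ * d * (d⁻¹ * (y : Γ) * d * (y : Γ)⁻¹) * y := by group
          _ = d * ((y' : Γ)⁻¹ * y) := by rw [h']; group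
      exact Subtype.ext (inv_mul_eq_one.mp (hRfpf d hd hdb _
        (R.mul_mem (R.inv_mem y'.2) y.2) hc)).symm
    obtain ⟨y, hy⟩ := (Finite.injective_iff_surjective.mp hinj) ⟨u, hu⟩
    exact ⟨y, y.2, congrArg Subtype.val hy⟩
  -- `R` fixes `χ`
  have hRS : R ≤ stab Z χ := by
    intro g hg
    obtain ⟨hne1, hex⟩ := htwist hg
    by_cases hdb : d ∈ zpowers b
    · have hbd : b ∈ zpowers d := mem_zpowers_of_prime hp (hAel.2 b hb) hdb hd1
      obtain ⟨d', hd', -, -, honly', -, hkill'⟩ := hstab _ hne1 hex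
      have hgd : Commute g d := by
        obtain ⟨i, rfl⟩ := mem_zpowers_iff.mp hdb
        exact (hbR g hg).zpow_right i
      have hdS' : d ∈ stab Z (tw Z χ (hRZ hg)) := by
        refine ⟨hAZ hd, fun z z' e => ?_⟩
        rw [tw_apply, tw_apply]
        refine hdS.2 _ _ ?_
        simp only [← e]
        rw [show d * (g * (z : Γ) * g⁻¹) * d⁻¹ = (d * g) * z * (d * g)⁻¹ by group, ← hgd.eq]
        group
      have hd'b : d' ∈ zpowers b := by
        refine zpowers_le.mpr hdb (mem_zpowers_of_prime hp (hAel.2 d' hd') ?_ hd1)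
        exact honly' d hd hdS'
      rw [← tw_eq_iff Z χ (hRZ hg)]
      refine MonoidHom.ext fun z => ?_
      have hle : Z ≤ (MonoidHom.eqLocus (tw Z χ (hRZ hg)) χ).map Z.subtype := by
        refine le_of_noncyclic hncyc hAZ (coprime_of_le_right hZQ hQcop) ?_
        rintro e he he1 z ⟨hz, hze⟩
        have hze' : Commute z e := mem_centralizer_singleton_iff.mp hze
        refine ⟨⟨z, hz⟩, ?_, rfl⟩
        show tw Z χ (hRZ hg) ⟨z, hz⟩ = χ ⟨z, hz⟩
        by_cases heb : e ∈ zpowers b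
        · have hzb : Commute z b := by
            obtain ⟨i, hi⟩ := mem_zpowers_iff.mp (mem_zpowers_of_prime hp (hAel.2 b hb) heb he1)
            exact hi ▸ hze'.zpow_right i
          rw [tw_apply]
          refine congrArg χ (Subtype.ext ?_)
          simp only
          rw [← (hbQ z (hZQ hz) hzb g hg).eq, mul_inv_cancel_right]
        · rw [hkill' e he (fun h => heb (zpowers_le.mpr hd'b h)) ⟨z, hz⟩ hze',
            hkill e he (fun h => heb (zpowers_le.mpr hdb h)) ⟨z, hz⟩ hze']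
      obtain ⟨z', hz', hzz⟩ := hle z.2
      rw [← Subtype.ext (a1 := z') (a2 := z) hzz]
      exact hz'
    · obtain ⟨y, hy, hyg⟩ := hsurj hdb g hg
      obtain ⟨hne1', hex'⟩ := htwist hy
      obtain ⟨d', hd', hd'1, hd'S, -, -, -⟩ := hstab _ hne1' hex'
      have hd'b : d' ∉ zpowers b := by
        intro h
        obtain ⟨i, hi⟩ := mem_zpowers_iff.mp (mem_zpowers_of_prime hp (hAel.2 b hb) h hd'1)
        have h1 := conj_mem_stab_of_mem_stab_tw Z χ (hRZ hy) (zpow_mem hd'S i)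
        rw [hi, (hbR y hy).eq, mul_inv_cancel_right] at h1
        exact hdb (mem_zpowers_of_prime hp (hAel.2 d hd) (honly b hb h1) hb1)
      obtain ⟨i, j, hij⟩ := exists_zpow_mul_zpow hp hAel hcard hb hb1 hd' hd'b hd
      have h1 : y * (b ^ (-i) * d) * y⁻¹ ∈ stab Z χ := by
        refine conj_mem_stab_of_mem_stab_tw Z χ (hRZ hy) ?_
        rw [hij, ← mul_assoc, ← zpow_add, neg_add_cancel, zpow_zero, one_mul]
        exact zpow_mem hd'S j
      have h2 : g * b ^ (-i) ∈ stab Z χ := by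
        refine (?_ : g * b ^ (-i) = d⁻¹ * (y * (b ^ (-i) * d) * y⁻¹)) ▸ mul_mem (inv_mem hdS) h1
        have hc1 : Commute (b ^ (-i)) y := ((hbR y hy).zpow_right _).symm
        have hc2 : Commute (b ^ (-i)) d := (commute_of_mem hAel hb hd).zpow_left _
        rw [← hyg, hc2.eq,
          show y * (d * b ^ (-i)) * y⁻¹ = y * d * (b ^ (-i) * y⁻¹) by group, hc1.inv_right.eq]
        group
      have h3 : g ^ p ∈ stab Z χ := by
        have h := pow_mem h2 p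
        rw [((hbR g hg).zpow_right (-i)).mul_pow] at h
        have hbp : (b ^ (-i)) ^ p = 1 := by
          rw [← zpow_natCast, ← zpow_mul, mul_comm, zpow_mul, zpow_natCast, hAel.2 b hb, one_zpow]
        rwa [hbp, mul_one] at h
      obtain ⟨m, hm⟩ := exists_pow_eq_self_of_coprime
        (hRcop.coprime_dvd_right (R.orderOf_dvd_natCard hg))
      exact hm ▸ pow_mem h3 m
  have hVst : ∀ g ∈ stab Z χ, (∀ v ∈ U, ρ g v ∈ U) →
      ∀ v ∈ U ⊓ wt ρ Z χ, ρ g v ∈ U ⊓ wt ρ Z χ :=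
    fun g hg hgU v hv => ⟨hgU v hv.1, mem_wt_of_mem_stab hg hv.2⟩
  have hQfix : ∀ g ∈ normalizer (Q : Set Γ), (∀ v ∈ U ⊓ wt ρ Z χ, ρ g⁻¹ v ∈ U ⊓ wt ρ Z χ) →
      (∀ e ∈ A, e ∈ zpowers d → e ≠ 1 → ∀ q ∈ Q, Commute q e → Commute q g) →
      Q ≤ twEq ρ Q (U ⊓ wt ρ Z χ) (hVQ χ) g := by
    intro g hg hgV hgc
    refine le_of_noncyclic hncyc hAQ hQcop ?_
    rintro e he he1 q ⟨hq, hqe⟩
    have hqe' : Commute q e := mem_centralizer_singleton_iff.mp hqe
    refine ⟨hq, fun v hv => ?_⟩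
    by_cases hed : e ∈ zpowers d
    · rw [← (hgc e he hed he1 q hq hqe').eq, mul_inv_cancel_right]
    · rw [htrivQ e he hed q hq hqe' v hv, map_mul, map_mul, Module.End.mul_apply,
        Module.End.mul_apply, htrivQ e he hed q hq hqe' _ (hgV v hv), apply_apply_inv]
  have hV : ∀ g ∈ R, ∀ v ∈ U ⊓ wt ρ Z χ, ρ g v ∈ U ⊓ wt ρ Z χ :=
    fun g hg => hVst g (hRS hg) (hUR g hg)
  by_cases hdb : d ∈ zpowers b
  · refine (hQfix x (hRQ hx) (hV _ (inv_mem hx)) ?_ hq).2 w ⟨hwU, hw⟩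
    intro e _ hed he1 q hq hqe
    refine hbQ q hq ?_ x hx
    obtain ⟨i, hi⟩ := mem_zpowers_iff.mp
      (mem_zpowers_of_prime hp (hAel.2 b hb) (zpowers_le.mpr hdb hed) he1)
    exact hi ▸ hqe.zpow_right i
  · obtain ⟨y, hy, rfl⟩ := hsurj hdb x hx
    have hdV : ∀ v ∈ U ⊓ wt ρ Z χ, ρ d v ∈ U ⊓ wt ρ Z χ := hVst d hdS (hUA d hd)
    have hT := hQfix d (hAQ hd) (hVst _ (inv_mem hdS) (hUA _ (inv_mem hd))) (by
      intro e _ hed he1 q _ hqe
      obtain ⟨i, hi⟩ := mem_zpowers_iff.mp (mem_zpowers_of_prime hp (hAel.2 d hd) hed he1)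
      exact hi ▸ hqe.zpow_right i)
    have hq' : y⁻¹ * q * y ∈ Q := by
      simpa using conj_mem_of_le_normalizer hRQ (inv_mem hy) hq
    have hq'' : d⁻¹ * q * d ∈ Q := by
      simpa using conj_mem_of_le_normalizer hAQ (inv_mem hd) hq
    have h1 := (hT hq').2 _ (hV _ (inv_mem hy) _ (hdV w ⟨hwU, hw⟩))
    have h2 := (hT hq'').2 w ⟨hwU, hw⟩
    rw [show d * (d⁻¹ * q * d) * d⁻¹ = q by group] at h2
    rw [h2]
    calc ρ (d⁻¹ * y * d * y⁻¹ * q * (d⁻¹ * y * d * y⁻¹)⁻¹) w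
        = ρ (d⁻¹ * y) (ρ (d * (y⁻¹ * q * y) * d⁻¹) (ρ y⁻¹ (ρ d w))) := by
          simp only [← Module.End.mul_apply, ← map_mul]
          congr 2
          group
      _ = ρ (d⁻¹ * q * d) w := by
          rw [h1]
          simp only [← Module.End.mul_apply, ← map_mul]
          congr 2
          group

end Cfsg.Agent.Lib.Ward
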